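import Groth.Agent.SurfRR.Index
import Groth.Agent.VolLib.GenRank
import Groth.Agent.ExtShX.Dualizing
import Groth.Agent.ExtShX.RankOne
import Groth.Agent.InvFam.Embed
import Groth.Agent.Lib.PnDualExt
import Groth.Agent.Lib.PnDualSheafHom
import Groth.Agent.WedgeX.Dual
import Groth.Agent.S2926

/-!
# The Hodge index inequality on integral projective surfaces over an arbitrary field
-/

set_option linter.style.haveILetI false
set_option linter.unusedSectionVars false
set_option backward.isDefEq.respectTransparency false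
set_option backward.isDefEq.respectTransparency.types false
set_option maxHeartbeats 1000000

universe u

open CategoryTheory CategoryTheory.Limits AlgebraicGeometry TopologicalSpace
open Groth.Agent.H23.PicMul
open scoped Groth.Agent.H23.PicMul

noncomputable section

namespace Groth.Agent.HodgeIdx

open Groth.Agent Groth.Agent.IntSym Groth.Agent.SurfRR
open Groth.Agent.VolLib (hseq)
open Groth.Agent.HilbPoly (pw)

variable (k : Type u) [Field k] {X : Scheme.{u}} [X.Over (Spec (CommRingCat.of k))]
  [IsProper (X ↘ Spec (CommRingCat.of k))] [IsIntegral X]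
  (hdim : topologicalKrullDim X = ((2 : ℕ) : WithBot ℕ∞))

include hdim in
/-- An invertible module of non-positive degree with nonzero square has no sections. -/
theorem finrank_h0_eq_zero {A N : X.Modules} (hA : CohB1.IsAmple A) (hN : PicF.IsInvertible N)
    (hdeg : pair k N A ≤ 0) (hsq : pair k N N ≠ 0) : Module.finrank k (Coh.HH X N 0) = 0 := by
  haveI := CurveCohLib.isNoetherian_of_proper (k := k) (X := X)
  haveI : X.IsSeparated := AmpleVan.isSeparated_of_proper (A := k)
  by_contra hne
  obtain ⟨τ, hτ⟩ := VolLib.exists_section_of_pos (k := k) (Nat.pos_of_ne_zero hne)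
  let s : Coh.structureModule X ⟶ N := InvX.ofSect τ
  haveI := InvEnd.mono_of_ne_zero InvX.isInvertible_structureModule hN s (fun h0 => hτ (by
    rw [← InvX.one_ofSect τ]
    exact congrArg InvX.one h0))
  haveI := NakaiMo.isIso_stalk hN s
  have hηs : genericPoint X ∉ CohB1.support (cokernel s) := Snapper.notMem_support_cokernel s inferInstance
  have hO : Coh.IsCoh (Coh.structureModule X) := QCoh.isCoh_structureModule'
  have hNc := AmpleVan.isCoh_invertible hN
  have hQ := QCoh.isCoh_cokernel hO.1 hNc s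
  have hS : (ShortComplex.mk s (cokernel.π s) (cokernel.condition s)).ShortExact :=
    .mk' (ShortComplex.exact_of_g_is_cokernel _ (cokernelIsCokernel s)) ‹_› inferInstance
  have hQd : topologicalKrullDim ↥(CohB1.support (cokernel s)) < ((2 : ℕ) : WithBot ℕ∞) := hdim ▸
    H23.TopDim.dim_lt_of_ssubset (X := X) (by rw [hdim]; exact WithBot.coe_inj.not.2 (ENat.natCast_ne_top _))
      (QCoh.isClosed_support_of_isFT hQ.1 hQ.2) (fun h => hηs (h ▸ Set.mem_univ _))
  have hQd1 := HilbPoly.le_of_lt_succ hQd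
  have key : ∀ M, PicF.IsInvertible M → sym k [M] (cokernel s) = pair k N M := by
    intro M hM
    have hl : Inv [M] := List.forall_mem_singleton.2 hM
    have hadd := (additive_sym k hl).add _ hS hO hNc hQ
    change sym k [M] N = sym k [M] (Coh.structureModule X) + sym k [M] (cokernel s) at hadd
    obtain ⟨e⟩ : Nonempty ((AmpleVan.tw N).obj (Coh.structureModule X) ≅ N) := CurveSurface.nonempty_unit_tensor N
    show _ = sym k [N, M] (Coh.structureModule X)
    refine Eq.trans ?_ (sym_cons k N [M] _).symm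
    rw [sym_iso k hl e]
    linarith
  have hm := HilbPoly.mult_nonneg_and_pos k hA 1 _ hQ hQd1
  change (0 : ℤ) ≤ sym k [A] (cokernel s) ∧ (_ → 0 < sym k [A] (cokernel s)) at hm
  rw [key A hA.1] at hm
  have hlt : topologicalKrullDim ↥(CohB1.support (cokernel s)) < ((1 : ℕ) : WithBot ℕ∞) :=
    lt_of_le_of_ne hQd1 fun h => (hm.2 h).not_ge hdeg
  exact hsq ((key N hN).symm.trans (sym_eq_zero k (List.forall_mem_singleton.2 hN) hQ hlt))

include hdim in
/-- The top cohomology is bounded by the sections of the dual twist of the dualizing module. -/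
theorem exists_dual {A : X.Modules} (hA : CohB1.IsAmple A) :
    ∃ ω : X.Modules, Coh.IsCoh ω ∧ ∀ F F' : X.Modules, PicF.IsInvertible F →
      (CohB1.tensorMod F F' ≅ Coh.structureModule X) →
        Module.finrank k (Coh.HH X F 2) = Module.finrank k (Coh.HH X (CohB1.tensorMod ω F') 0) := by
  obtain ⟨d, n, ι, -, hι, hk, -⟩ := InvFam.exists_closed_embedding k hA
  haveI := hι
  haveI := CurveCohLib.isNoetherian_of_proper (k := k) (X := X)
  have hn : 2 ≤ n := by
    have h1 := hdim.symm.le.trans ((dim_eq_of_range ι rfl).le.trans (topologicalKrullDim_subspace_le _ _))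
    rw [S10829.result k n] at h1
    exact_mod_cast h1
  haveI : ModSite.HasSheafHom (O := (CohB1.ProjSpace n k).sheaf)
      ((Scheme.Modules.pushforward ι).obj (Coh.structureModule X)) := ModTensor.hasSheafHom _
  haveI : EnoughInjectives (ModSite.Mod (CohB1.ProjSpace n k).sheaf) := IsGrothendieckAbelian.enoughInjectives
  obtain ⟨ω, hω⟩ := ExtShX.exists_push_iso_extSh ι (n - 2)
  obtain ⟨t, ht⟩ := ExtShX.exists_trace_represents (N := n) ι hk 2 (n - 2) (by omega) hdim.le hω
  have hωc := ExtShX.isCoh_of_push_iso_extSh ι (n - 2) hω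
  haveI : HasExt.{u} X.Modules := IsGrothendieckAbelian.hasExt _
  refine ⟨ω, hωc, fun F F' hF u => ?_⟩
  have hFc := AmpleVan.isCoh_invertible hF
  obtain ⟨e'⟩ := PnDual.nonempty_ext_linearEquiv_HH (A := k) (H23.PullPush.isFinLocFree_of_isInvertible hF) ω 0
  obtain ⟨c⟩ := WedgeX.nonempty_hom_invertible hF u ω
  have e : Abelian.Ext.{u} F ω 0 ≃ₗ[k] Module.Dual k (Coh.HH X F 2) :=
    Abelian.Ext.linearEquiv₀ ≪≫ₗ LinearEquiv.ofBijective (PnDual.dualityLin t F) (ht F hFc)
  have h := (e.symm ≪≫ₗ e' ≪≫ₗ S2926.hhIso k c 0).finrank_eq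
  rwa [Subspace.dual_finrank_eq] at h

theorem two_euler_pow (hd : topologicalKrullDim X ≤ ((2 : ℕ) : WithBot ℕ∞)) {L : X.Modules}
    (hL : PicF.IsInvertible L) (n : ℕ) :
    2 * Curv2.euler k X (CohB1.tensorPow L n) = pair k L L * (n : ℤ) * ((n : ℤ) - 1) +
      2 * (n : ℤ) * (Curv2.euler k X L - Curv2.euler k X (Coh.structureModule X)) +
      2 * Curv2.euler k X (Coh.structureModule X) := by
  induction n with
  | zero =>
    show 2 * Curv2.euler k X (Coh.structureModule X) = _
    push_cast
    ring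
  | succ n ih =>
    show 2 * Curv2.euler k X (CohB1.tensorMod (CohB1.tensorPow L n) L) = _
    rw [euler_tensor k hL, pair_pow k hd hL hL]
    push_cast
    linarith

include hdim in
/-- **The Hodge index inequality**: orthogonal to an ample class the square is non-positive. -/
theorem index_ample {A L : X.Modules} (hA : CohB1.IsAmple A) (hL : PicF.IsInvertible L)
    (horth : pair k L A = 0) : pair k L L ≤ 0 := by
  haveI := CurveCohLib.isNoetherian_of_proper (k := k) (X := X)
  haveI : X.IsSeparated := AmpleVan.isSeparated_of_proper (A := k)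
  by_contra hpos
  push Not at hpos
  obtain ⟨L', hL', ⟨u⟩⟩ := H23.PicInv.exists_inverse hL
  have hh0 : ∀ (M : X.Modules), PicF.IsInvertible M → pair k M A = 0 → pair k M M = pair k L L →
      ∀ m : ℕ, 1 ≤ m → Module.finrank k (Coh.HH X (CohB1.tensorPow M m) 0) = 0 := by
    intro M hM h1 h2 m hm
    have hMm := InvX.isInvertible_tensorPow hM m
    refine finrank_h0_eq_zero k hdim hA hMm (by rw [pair_pow k hdim.le hM hA.1, h1, mul_zero]) ?_
    rw [pair_pow k hdim.le hM hMm, pair_comm k hM hMm, pair_pow k hdim.le hM hM, h2]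
    exact mul_ne_zero (by omega) (mul_ne_zero (by omega) hpos.ne')
  have hA'0 : pair k L' A = 0 := by rw [pair_inverse k hdim.le hL hL' u hA.1, horth, neg_zero]
  have hL'L' : pair k L' L' = pair k L L := by
    rw [pair_inverse k hdim.le hL hL' u hL', pair_comm k hL hL', pair_inverse k hdim.le hL hL' u hL, neg_neg]
  obtain ⟨ω, hω, hdual⟩ := exists_dual k hdim hA
  obtain ⟨e, ⟨C, hC⟩, hnear⟩ := VolLib.near_free (k := k) hA hdim hL' hω 0
  have hu : ∀ m : ℕ, Nonempty (CohB1.tensorMod (CohB1.tensorPow L m) (CohB1.tensorPow L' m) ≅ Coh.structureModule X) :=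
    fun m => cl_eq_iff.1 (by
      rw [cl_tensor, cl_tensorPow, cl_tensorPow, ← mul_pow, ← cl_tensor, cl_eq_iff.2 ⟨u⟩,
        show PicF.cl (Coh.structureModule X) = 1 from rfl, one_pow])
  have hh2 : ∀ m : ℕ, 1 ≤ m → Module.finrank k (Coh.HH X (CohB1.tensorPow L m) 2) ≤ C * (m + 1) := by
    intro m hm
    rw [hdual _ _ (InvX.isInvertible_tensorPow hL m) (hu m).some]
    have h1 : hseq k L' ω 0 m ≤ _ := (hnear m).1
    have h2 : hseq k L' (Coh.structureModule X) 0 m = 0 := by
      refine (HilbPoly.finrank_HH_iso k ?_ 0).trans (hh0 L' hL' hA'0 hL'L' m hm)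
      exact (CurveSurface.nonempty_unit_tensor (CohB1.tensorPow L' m)).some
    simp only [h2, mul_zero, zero_add] at h1
    refine h1.trans (le_of_mul_le_mul_right ((hC m).trans_eq ?_) (Nat.succ_pos m))
    ring
  set c := Curv2.euler k X L - Curv2.euler k X (Coh.structureModule X)
  set χ := Curv2.euler k X (Coh.structureModule X)
  let m : ℕ := 2 * C + 2 * c.natAbs + 2 * χ.natAbs + 2 * C + 3
  have hLm := InvX.isInvertible_tensorPow hL m
  have hχ : Curv2.euler k X (CohB1.tensorPow L m) = (Module.finrank k (Coh.HH X (CohB1.tensorPow L m) 0) : ℤ) -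
      Module.finrank k (Coh.HH X (CohB1.tensorPow L m) 1) + Module.finrank k (Coh.HH X (CohB1.tensorPow L m) 2) := by
    rw [CurveCohLib.euler_eq_sum (k := k) (N := 3) fun i hi =>
      Snapper.subsingleton_HH_of_dim_le hdim.le (AmpleVan.isCoh_invertible hLm).1 (by omega)]
    simp [Finset.sum_range_succ, sub_eq_add_neg]
  have h0 := hh0 L hL horth rfl m (by omega)
  have h2 : (Module.finrank k (Coh.HH X (CohB1.tensorPow L m) 2) : ℤ) ≤ C * ((m : ℤ) + 1) := by
    exact_mod_cast hh2 m (by omega)
  have h3 := two_euler_pow k hdim.le hL m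
  rw [hχ, h0] at h3
  have hc := Int.le_natAbs (a := -c)
  have hx := Int.le_natAbs (a := -χ)
  rw [Int.natAbs_neg] at hc hx
  have hm' : (m : ℤ) = 4 * C + 2 * c.natAbs + 2 * χ.natAbs + 3 := by
    simp only [m]; push_cast; ring
  have h4 : (1 : ℤ) * ((m : ℤ) * ((m : ℤ) - 1)) ≤ pair k L L * ((m : ℤ) * ((m : ℤ) - 1)) :=
    mul_le_mul_of_nonneg_right (by omega) (mul_nonneg (by omega) (by omega))
  have h5 : -((c.natAbs : ℤ)) * (m : ℤ) ≤ c * (m : ℤ) := mul_le_mul_of_nonneg_right (by omega) (by omega)
  have h6 := Int.natCast_nonneg (Module.finrank k (Coh.HH X (CohB1.tensorPow L m) 1))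
  push_cast at h3
  nlinarith

end Groth.Agent.HodgeIdx
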