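import Groth.Agent.BlowUpX.Projective
import Groth.Agent.BlowUpLib.Glue
import Groth.Agent.ProjX.TwistAmple
import Groth.Agent.S1681
import Groth.Agent.S8851
import Groth.Agent.S8910
import Groth.Agent.S2331
import Groth.Agent.VarDim.Top
import Groth.Agent.HodgeIdx.SurfIneq

/-!
# Blowing up a closed subset of an integral projective scheme
-/

set_option linter.style.haveILetI false
set_option linter.unusedSectionVars false
set_option backward.isDefEq.respectTransparency false
set_option backward.isDefEq.respectTransparency.types false
set_option maxHeartbeats 1000000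

universe u

open CategoryTheory CategoryTheory.Limits AlgebraicGeometry TopologicalSpace

noncomputable section

namespace Groth.Agent.HodgeIdx

open Groth.Agent

/-- The blowing up of a proper closed subset: an integral projective model of the same dimension on which
the subset is the image of an effective Cartier divisor. -/
theorem exists_blowUp_closed (k : Type u) [Field k] {S : Scheme.{u}} [S.Over (Spec (CommRingCat.of k))]
    [IsProper (S ↘ Spec (CommRingCat.of k))] [IsIntegral S] {A : S.Modules} (hA : CohB1.IsAmple A)
    (T : Closeds S) (hT : (T : Set S) ≠ Set.univ) :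
    ∃ (S' : Scheme.{u}) (π : S' ⟶ S) (E : S'.IdealSheafData) (A' : S'.Modules),
      IsIntegral S' ∧ IsProper π ∧ Surjective π ∧ topologicalKrullDim S' = topologicalKrullDim S ∧
        CohB1.IsAmple A' ∧ BlowUp.IsEffCartierIdeal E ∧ π '' (E.support : Set S') = T := by
  haveI := CurveCohLib.isNoetherian_of_proper (k := k) (X := S)
  let p := S ↘ Spec (CommRingCat.of k)
  let I : S.IdealSheafData := Scheme.IdealSheafData.vanishingIdeal T
  have hIs : (I.support : Set S) = T := by
    rw [Scheme.IdealSheafData.coe_support_vanishingIdeal]
  have hft : BlowUp.IsFiniteTypeIdeal I := fun U => by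
    haveI := IsLocallyNoetherian.component_noetherian U
    exact IsNoetherian.noetherian _
  obtain ⟨S', b, hb⟩ := BlowUpLib.exists_blowUp (C := I)
  haveI hbp : IsProper b := BlowUpLib.isProper_of_isBlowUp (C := I) hb hft
  haveI : IsReduced S' := S8851.result I b hb
  have hη : genericPoint S ∉ (T : Set S) := fun h => hT (Set.eq_univ_of_forall fun x =>
    ((genericPoint_spec S).specializes (Set.mem_univ x)).mem_closed T.isClosed h)
  have hbij := S1681.result I b hb
  have hmaxS : ∀ y : S, y ⤳ genericPoint S → y = genericPoint S := fun y hy =>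
    hy.antisymm ((genericPoint_spec S).specializes (Set.mem_univ y)) |>.eq
  obtain ⟨η', hη', hbη⟩ := hbij.surjOn ⟨hmaxS, by rw [← SetLike.mem_coe, hIs]; exact hη⟩
  change b η' = genericPoint S at hbη
  haveI : IsNoetherian S' := by
    haveI : LocallyOfFiniteType b := inferInstance
    haveI := LocallyOfFiniteType.isLocallyNoetherian b
    haveI : CompactSpace S' := HasAffineProperty.iff_of_isAffine.mp
      (inferInstance : QuasiCompact (b ≫ p))
    constructor
  have hgen : ∀ z : S', η' ⤳ z := fun z => by
    obtain ⟨w, hw, hwz⟩ : ∃ w : S', (∀ y, y ⤳ w → y = w) ∧ w ⤳ z := by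
      let Z := irreducibleComponent z
      have hZ : IsIrreducible Z := isIrreducible_irreducibleComponent
      refine ⟨hZ.genericPoint, fun y hy => ?_, hZ.isGenericPoint_genericPoint isClosed_irreducibleComponent
        |>.specializes mem_irreducibleComponent⟩
      have h1 : Z ⊆ closure {y} := by
        rw [← hZ.isGenericPoint_genericPoint isClosed_irreducibleComponent]
        exact specializes_iff_closure_subset.1 hy
      have h2 : Z = closure {y} := (irreducibleComponent_mem_irreducibleComponents z).eq_of_le
        isIrreducible_singleton.closure h1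
      refine IsGenericPoint.eq (S := Z) ?_ (hZ.isGenericPoint_genericPoint isClosed_irreducibleComponent)
      exact h2.symm
    have hbw := (hbij.mapsTo hw).1 (genericPoint S) ((genericPoint_spec S).specializes (Set.mem_univ _))
    have : w = η' := hbij.injOn hw hη' (hbw.symm.trans hbη.symm)
    rwa [← this]
  haveI : IrreducibleSpace S' := by
    haveI : Nonempty S' := ⟨η'⟩
    haveI : PreirreducibleSpace S' := ⟨by
      have h : (Set.univ : Set S') = closure {η'} :=
        (Set.eq_univ_of_forall fun z => (hgen z).mem_closure).symm
      rw [h]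
      exact isIrreducible_singleton.closure.isPreirreducible⟩
    exact { toNonempty := inferInstance }
  haveI hint : IsIntegral S' := isIntegral_of_irreducibleSpace_of_isReduced S'
  haveI : Surjective b := ⟨Set.range_eq_univ.1 (Set.eq_univ_of_forall fun x =>
    ((genericPoint_spec S).specializes (Set.mem_univ x)).mem_closed b.isClosedMap.isClosed_range
      ⟨η', hbη⟩)⟩
  obtain ⟨M, hM⟩ := ProjX.exists_isRelAmple_of_isProjective (S8910.result I hft b hb)
  obtain ⟨n₀, -, hn⟩ := S2331.result b p M A hM ((AmpleX.isRelAmple_iff_isAmple p A).2 hA)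
  refine ⟨S', b, I.comap b, _, hint, hbp, inferInstance, ?_,
    (AmpleX.isRelAmple_iff_isAmple (b ≫ p) _).1 (hn n₀ le_rfl), hb.1, ?_⟩
  · haveI := BlowUpX.isIso_restrict hb
    let U : S.Opens := I.support.compl
    have hηU : genericPoint S ∈ U := fun h => hη (by rw [← hIs]; exact h)
    have hη'U : η' ∈ b ⁻¹ᵁ U := by
      show b η' ∈ U
      rw [hbη]; exact hηU
    have h1 : topologicalKrullDim (b ⁻¹ᵁ U : S'.Opens).toScheme = topologicalKrullDim U.toScheme :=
      IsHomeomorph.topologicalKrullDim_eq _ (b ∣_ U).homeomorph.isHomeomorph
    have hdeg : ∀ {W : Scheme.{u}} [IrreducibleSpace W] (q : W ⟶ Spec (CommRingCat.of k)) [LocallyOfFiniteType q]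
        (V : W.Opens), genericPoint W ∈ V → topologicalKrullDim W = topologicalKrullDim V.toScheme := by
      intro W _ q _ V hV
      refine Eq.trans (VarDim.topologicalKrullDim_eq_deg_genericPoint q) ?_
      refine le_antisymm ?_ ((topologicalKrullDim_subspace_le W _).trans
        (VarDim.topologicalKrullDim_eq_deg_genericPoint q).le)
      rw [show topologicalKrullDim V.toScheme = topologicalKrullDim (V : Set W) from rfl,
        VarDim.topologicalKrullDim_opens_eq_iSup_deg q V]
      exact le_iSup_of_le ⟨genericPoint W, hV⟩ le_rfl
    have hgp : genericPoint S' = η' :=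
      (hgen (genericPoint S')).antisymm ((genericPoint_spec S').specializes (Set.mem_univ η')) |>.eq.symm
    rw [hdeg (b ≫ p) (b ⁻¹ᵁ U) (hgp.symm ▸ hη'U), h1, ← hdeg p U hηU]
  · rw [Scheme.IdealSheafData.support_comap]
    show b '' (b ⁻¹' (I.support : Set S)) = _
    rw [Set.image_preimage_eq _ b.surjective, hIs]

end Groth.Agent.HodgeIdx
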