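import Groth.Agent.HodgeIdx.Irred
import Groth.Agent.InvFam.AlgEq

/-!
# Numerical triviality from Euler characteristics of twists
-/

set_option linter.style.haveILetI false
set_option backward.isDefEq.respectTransparency false
set_option backward.isDefEq.respectTransparency.types false

universe u

open CategoryTheory CategoryTheory.Limits AlgebraicGeometry TopologicalSpace
open Groth.Agent.H23.PicMul
open scoped Groth.Agent.H23.PicMul

noncomputable section

namespace Groth.Agent.HodgeIdx

open Groth.Agent Groth.Agent.IntSym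

variable (k : Type u) [Field k] {X : Scheme.{u}} [X.Over (Spec (CommRingCat.of k))]
  [IsProper (X ↘ Spec (CommRingCat.of k))]

/-- Symbols of powers of one module are determined by the Euler characteristics of the twists. -/
theorem sym_replicate_congr {H : X.Modules} (hH : PicF.IsInvertible H) :
    ∀ (n : ℕ) (F G : X.Modules), PicF.IsInvertible F → PicF.IsInvertible G →
      (∀ j : ℕ, Curv2.euler k X (CohB1.tensorMod F (CohB1.tensorPow H j)) =
        Curv2.euler k X (CohB1.tensorMod G (CohB1.tensorPow H j))) →
      sym k (List.replicate n H) F = sym k (List.replicate n H) G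
  | 0, F, G, hF, hG, h => by
    haveI := CurveCohLib.isNoetherian_of_proper (k := k) (X := X)
    obtain ⟨a⟩ : Nonempty (CohB1.tensorMod F (CohB1.tensorPow H 0) ≅ F) :=
      cl_eq_iff.1 (by rw [cl_tensor, cl_tensorPow, pow_zero, mul_one])
    obtain ⟨b⟩ : Nonempty (CohB1.tensorMod G (CohB1.tensorPow H 0) ≅ G) :=
      cl_eq_iff.1 (by rw [cl_tensor, cl_tensorPow, pow_zero, mul_one])
    have h0 := h 0
    rw [CurveCohLib.euler_congr (k := k) a, CurveCohLib.euler_congr (k := k) b] at h0
    exact h0
  | n + 1, F, G, hF, hG, h => by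
    haveI := CurveCohLib.isNoetherian_of_proper (k := k) (X := X)
    have hstep : ∀ M : X.Modules, ∀ j : ℕ,
        Curv2.euler k X (CohB1.tensorMod (CohB1.tensorMod M H) (CohB1.tensorPow H j)) =
          Curv2.euler k X (CohB1.tensorMod M (CohB1.tensorPow H (j + 1))) := fun M j => by
      obtain ⟨a⟩ : Nonempty (CohB1.tensorMod (CohB1.tensorMod M H) (CohB1.tensorPow H j) ≅
          CohB1.tensorMod M (CohB1.tensorPow H (j + 1))) :=
        cl_eq_iff.1 (by rw [cl_tensor, cl_tensor, cl_tensor, cl_tensorPow, cl_tensorPow, pow_succ', mul_assoc])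
      exact CurveCohLib.euler_congr (k := k) a
    rw [List.replicate_succ, sym_cons, sym_cons, sym_replicate_congr hH n F G hF hG h]
    refine congrArg (· - _) (sym_replicate_congr hH n _ _ (InvX.isInvertible_tensorMod hF hH)
      (InvX.isInvertible_tensorMod hG hH) fun j => ?_)
    show Curv2.euler k X (CohB1.tensorMod (CohB1.tensorMod F H) _) =
      Curv2.euler k X (CohB1.tensorMod (CohB1.tensorMod G H) _)
    rw [hstep, hstep, h]

/-- Numerical triviality from the Euler characteristics of the twists by the first two powers. -/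
theorem isNumEquivZero_of_euler [IrreducibleSpace X] {e : ℕ} (hdim : topologicalKrullDim X = (e : WithBot ℕ∞))
    {H L : X.Modules} (hH : CohB1.IsAmple H) (hL : PicF.IsInvertible L)
    (hv : ∀ m n : ℕ, Curv2.euler k X (CohB1.tensorMod (CohB1.tensorPow L m) (CohB1.tensorPow H n)) =
      Curv2.euler k X (CohB1.tensorPow H n)) :
    Pic13.IsNumEquivZero k X L := by
  haveI := CurveCohLib.isNoetherian_of_proper (k := k) (X := X)
  have hO : PicF.IsInvertible (Coh.structureModule X) := InvX.isInvertible_structureModule
  have hLO : PicF.IsInvertible ((AmpleVan.tw L).obj (Coh.structureModule X)) := InvX.isInvertible_tensorMod hO hL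
  have hLLO : PicF.IsInvertible ((AmpleVan.tw L).obj ((AmpleVan.tw L).obj (Coh.structureModule X))) :=
    InvX.isInvertible_tensorMod hLO hL
  have h1 : ∀ n, sym k (List.replicate n H) ((AmpleVan.tw L).obj (Coh.structureModule X)) =
      sym k (List.replicate n H) (Coh.structureModule X) := fun n => by
    refine sym_replicate_congr k hH.1 n _ _ hLO hO fun j => ?_
    obtain ⟨a⟩ : Nonempty (CohB1.tensorMod ((AmpleVan.tw L).obj (Coh.structureModule X)) (CohB1.tensorPow H j) ≅
        CohB1.tensorMod (CohB1.tensorPow L 1) (CohB1.tensorPow H j)) := cl_eq_iff.1 (by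
      show PicF.cl (CohB1.tensorMod (CohB1.tensorMod (Coh.structureModule X) L) (CohB1.tensorPow H j)) = _
      rw [cl_tensor, cl_tensor, cl_tensor, cl_tensorPow L, pow_one, ← one_def, one_mul])
    obtain ⟨b⟩ : Nonempty (CohB1.tensorMod (Coh.structureModule X) (CohB1.tensorPow H j) ≅ CohB1.tensorPow H j) :=
      cl_eq_iff.1 (by rw [cl_tensor, ← one_def, one_mul])
    rw [CurveCohLib.euler_congr (k := k) a, CurveCohLib.euler_congr (k := k) b, hv]
  have h2 : ∀ n, sym k (List.replicate n H) ((AmpleVan.tw L).obj ((AmpleVan.tw L).obj (Coh.structureModule X))) =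
      sym k (List.replicate n H) (Coh.structureModule X) := fun n => by
    refine sym_replicate_congr k hH.1 n _ _ hLLO hO fun j => ?_
    obtain ⟨a⟩ : Nonempty (CohB1.tensorMod ((AmpleVan.tw L).obj ((AmpleVan.tw L).obj (Coh.structureModule X)))
        (CohB1.tensorPow H j) ≅ CohB1.tensorMod (CohB1.tensorPow L 2) (CohB1.tensorPow H j)) := cl_eq_iff.1 (by
      show PicF.cl (CohB1.tensorMod (CohB1.tensorMod (CohB1.tensorMod (Coh.structureModule X) L) L)
        (CohB1.tensorPow H j)) = _
      rw [cl_tensor, cl_tensor, cl_tensor, cl_tensor, cl_tensorPow L, pow_two, ← one_def, one_mul])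
    obtain ⟨b⟩ : Nonempty (CohB1.tensorMod (Coh.structureModule X) (CohB1.tensorPow H j) ≅ CohB1.tensorPow H j) :=
      cl_eq_iff.1 (by rw [cl_tensor, ← one_def, one_mul])
    rw [CurveCohLib.euler_congr (k := k) a, CurveCohLib.euler_congr (k := k) b, hv]
  have e1 : ∀ n, sym k (L :: List.replicate n H) (Coh.structureModule X) = 0 := fun n => by
    rw [sym_cons, h1, sub_self]
  match e, hdim with
  | s + 2, hdim =>
    refine isNumEquivZero_of_orth k hdim hH hL (e1 _) (le_of_eq ?_)
    rw [sym_cons, sym_cons, sym_cons, h1, h2]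
    ring
  | 0, hdim =>
    intro Z i hi hZI hZ
    haveI := hi
    have h := (dim_eq_of_range i rfl).le.trans (topologicalKrullDim_subspace_le X (Set.range i))
    rw [hZ, hdim] at h
    exact absurd (show (1 : ℕ) ≤ 0 by exact_mod_cast h) (by decide)
  | 1, hdim =>
    intro Z i hi hZI hZ
    haveI := hi; haveI := hZI
    rw [curveDeg_eq k i hZ hL]
    have hr : Set.range i = Set.univ := by
      by_contra hne
      have h := H23.TopDim.dim_lt_of_ssubset (X := X) (by rw [hdim]; exact WithBot.coe_inj.not.2 (ENat.natCast_ne_top _))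
        i.isClosedEmbedding.isClosed_range hne
      rw [← dim_eq_of_range i rfl, hZ, hdim] at h
      exact lt_irrefl _ h
    let OC := (Coh.push i).obj (Coh.structureModule Z)
    have aL := additive_sym k (List.forall_mem_singleton.2 hL)
    have aH := additive_sym k (List.forall_mem_singleton.2 hH.1)
    have hφ : HilbPoly.Additive fun M : X.Modules => sym k [L] M * sym k [H] OC - sym k [L] OC * sym k [H] M :=
      ⟨fun M N e => by rw [aL.iso M N e, aH.iso M N e], fun S hS a b e => by
        rw [aL.add S hS a b e, aH.add S hS a b e]; ring⟩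
    have hlt : ∀ M : X.Modules, Coh.IsCoh M → i (genericPoint Z) ∉ CohB1.support M →
        topologicalKrullDim ↥(CohB1.support M) < ((1 : ℕ) : WithBot ℕ∞) := fun M hM hη => by
      rw [← hdim]
      exact H23.TopDim.dim_lt_of_ssubset (X := X) (by rw [hdim]; exact WithBot.coe_inj.not.2 (ENat.natCast_ne_top _))
        (QCoh.isClosed_support_of_isFT hM.1 hM.2) fun h => hη (h ▸ Set.mem_univ _)
    have hO' : Coh.IsCoh (Coh.structureModule X) := QCoh.isCoh_structureModule'
    have h := eq_zero_of_range hφ i (fun M hM _ hη => by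
      rw [sym_eq_zero k (List.forall_mem_singleton.2 hL) hM (hlt M hM hη),
        sym_eq_zero k (List.forall_mem_singleton.2 hH.1) hM (hlt M hM hη)]
      ring) (by show sym k [L] OC * sym k [H] OC - sym k [L] OC * sym k [H] OC = 0; ring) hO'
      (hr ▸ Set.subset_univ _)
    have hX : 0 < sym k [H] (Coh.structureModule X) :=
      (HilbPoly.mult_nonneg_and_pos k hH 1 _ hO' (AVDegPoly.dim_support_structure hdim).le).2
        (AVDegPoly.dim_support_structure hdim)
    rw [show sym k [L] (Coh.structureModule X) = 0 from e1 0, zero_mul, zero_sub, neg_eq_zero] at h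
    exact (mul_eq_zero.1 h).resolve_right hX.ne'

end Groth.Agent.HodgeIdx
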