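import Groth.Agent.GeomField.Algebra
import Mathlib.RingTheory.PolynomialAlgebra
import Mathlib.RingTheory.TensorProduct.MonoidAlgebra
import Mathlib.RingTheory.Localization.FractionRing
import Mathlib.RingTheory.Flat.Basic
import Mathlib.LinearAlgebra.TensorProduct.Submodule

/-!
# Base change to a rational function field
-/

set_option linter.style.haveILetI false

universe u

open TensorProduct Polynomial

noncomputable section

namespace Groth.Agent.HodgeIdx

variable (k : Type u) [Field k]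

/-- The field of rational functions in one variable. -/
abbrev RF : Type u := FractionRing (Polynomial k)

/-- The variable. -/
def rfX : RF k := algebraMap (Polynomial k) (RF k) X

theorem rfX_ne_zero : rfX k ≠ 0 := by
  unfold rfX
  simp

variable {k} (B : Type u) [CommRing B] [Algebra k B]

/-- A base change of a domain to a rational function field is a domain. -/
theorem isDomain_tensor [IsDomain B] : IsDomain (B ⊗[k] RF k) := by
  let P := Polynomial k
  let K := RF k
  let e : P ⊗[k] B ≃+* Polynomial B :=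
    (Algebra.TensorProduct.comm k P B).toRingEquiv.trans (polyEquivTensor k B).symm.toRingEquiv
  have : IsDomain (P ⊗[k] B) := e.toMulEquiv.isDomain
  let ψ : P ⊗[k] B →ₐ[k] K ⊗[k] B := Algebra.TensorProduct.map (IsScalarTower.toAlgHom k P K) (AlgHom.id k B)
  have hψ : Function.Injective ψ :=
    TensorProduct.map_injective_of_flat_flat (IsScalarTower.toAlgHom k P K).toLinearMap LinearMap.id
      (IsFractionRing.injective P K) Function.injective_id
  have : Nontrivial (K ⊗[k] B) := hψ.nontrivial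
  have : NoZeroDivisors (K ⊗[k] B) := ⟨fun {z w} hzw => by
    obtain ⟨s, hs, a, ha⟩ := GeomField.exists_tmul_mul_eq_map B (nonZeroDivisors P) z
    obtain ⟨t, ht, b, hb⟩ := GeomField.exists_tmul_mul_eq_map B (nonZeroDivisors P) w
    have h0 : a * b = 0 := hψ (by
      show ψ (a * b) = ψ 0
      rw [map_mul, map_zero, show ψ a = _ from ha.symm, show ψ b = _ from hb.symm, mul_mul_mul_comm, hzw, mul_zero])
    rcases eq_zero_or_eq_zero_of_mul_eq_zero h0 with h | h
    · left
      have h1 : ψ a = 0 := by rw [h, map_zero]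
      rw [show ψ a = _ from ha.symm] at h1
      exact (GeomField.isUnit_tmul_one B (nonZeroDivisors P) hs).mul_right_eq_zero.1 h1
    · right
      have h1 : ψ b = 0 := by rw [h, map_zero]
      rw [show ψ b = _ from hb.symm] at h1
      exact (GeomField.isUnit_tmul_one B (nonZeroDivisors P) ht).mul_right_eq_zero.1 h1⟩
  haveI : IsDomain (K ⊗[k] B) := NoZeroDivisors.to_isDomain _
  exact (Algebra.TensorProduct.comm k B K).toRingEquiv.toMulEquiv.isDomain

variable {B}

/-- The kernel of the evaluation at a transcendental element. -/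
theorem mem_span_of_map_eq_zero {f : B} {L : Type u} [CommRing L] [Algebra k L] (φ : B ⊗[k] RF k →ₐ[k] L)
    (hφ : Function.Injective fun b => φ (b ⊗ₜ[k] (1 : RF k)))
    (hf : φ (f ⊗ₜ[k] 1) = φ (1 ⊗ₜ[k] rfX k)) {z : B ⊗[k] RF k} (hz : φ z = 0) :
    z ∈ Ideal.span {f ⊗ₜ[k] (1 : RF k) - 1 ⊗ₜ[k] rfX k} := by
  let P := Polynomial k
  let K := RF k
  let c : K ⊗[k] B →ₐ[k] B ⊗[k] K := (Algebra.TensorProduct.comm k K B).toAlgHom
  let ψ : P ⊗[k] B →ₐ[k] K ⊗[k] B := Algebra.TensorProduct.map (IsScalarTower.toAlgHom k P K) (AlgHom.id k B)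
  let I := Ideal.span {f ⊗ₜ[k] (1 : RF k) - 1 ⊗ₜ[k] rfX k}
  let π : B ⊗[k] K →ₐ[k] (B ⊗[k] K) ⧸ I := Ideal.Quotient.mkₐ k I
  let β : P ⊗[k] B →ₐ[k] B := Algebra.TensorProduct.productMap (aeval f) (AlgHom.id k B)
  let ι : B →ₐ[k] B ⊗[k] K := Algebra.TensorProduct.includeLeft
  have hgen : ∀ (T : Type u) [CommRing T] [Algebra k T] (g : B ⊗[k] K →ₐ[k] T),
      g (f ⊗ₜ[k] 1) = g (1 ⊗ₜ[k] rfX k) → (g.comp (c.comp ψ)) = (g.comp ι).comp β := by
    intro T _ _ g hg
    refine Algebra.TensorProduct.ext (Polynomial.algHom_ext ?_) ?_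
    · show g (c (ψ ((X : P) ⊗ₜ[k] (1 : B)))) = g (ι (β ((X : P) ⊗ₜ[k] (1 : B))))
      simp only [ψ, c, β, ι, Algebra.TensorProduct.map_tmul, Algebra.TensorProduct.productMap_apply_tmul]
      simpa [rfX, P, K] using hg.symm
    · refine AlgHom.ext fun b => ?_
      show g (c (ψ ((1 : P) ⊗ₜ[k] b))) = g (ι (β ((1 : P) ⊗ₜ[k] b)))
      simp [ψ, c, β, ι]
  obtain ⟨s, hs, a, ha⟩ := GeomField.exists_tmul_mul_eq_map B (nonZeroDivisors P)
    ((Algebra.TensorProduct.comm k B K) z)
  have ha' : c (ψ a) = c (algebraMap P K s ⊗ₜ[k] (1 : B)) * z := by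
    have hcc : c ((Algebra.TensorProduct.comm k B K) z) = z :=
      (Algebra.TensorProduct.comm k B K).symm_apply_apply z
    rw [show ψ a = _ from ha.symm, map_mul, hcc]
  have h1 := AlgHom.congr_fun (hgen L φ hf) a
  change φ (c (ψ a)) = φ (β a ⊗ₜ[k] (1 : K)) at h1
  rw [ha', map_mul, hz, mul_zero] at h1
  have hβ : β a = 0 := hφ (show φ (β a ⊗ₜ[k] (1 : K)) = φ ((0 : B) ⊗ₜ[k] (1 : K)) by rw [← h1, TensorProduct.zero_tmul, map_zero])
  have hπ : π (f ⊗ₜ[k] (1 : K)) = π (1 ⊗ₜ[k] rfX k) :=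
    (Ideal.Quotient.mk_eq_mk_iff_sub_mem (I := I) _ _).2 (Ideal.mem_span_singleton_self _)
  have h2 := AlgHom.congr_fun (hgen ((B ⊗[k] K) ⧸ I) π hπ) a
  change π (c (ψ a)) = π (ι (β a)) at h2
  rw [ha', hβ, map_zero, map_zero, map_mul] at h2
  have hu := ((GeomField.isUnit_tmul_one B (nonZeroDivisors P) hs).map c).map π
  have hz0 : π z = 0 := (IsUnit.mul_right_eq_zero (M₀ := (B ⊗[k] K) ⧸ I) hu).1 h2
  exact Ideal.Quotient.eq_zero_iff_mem.1 hz0

end Groth.Agent.HodgeIdx
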