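import Groth.Agent.HodgeIdx.GenAlg
import Groth.Agent.GeomField.Fibre
import Groth.Agent.FibDim.BaseField
import Groth.Agent.InvX.Tensor
import Mathlib.AlgebraicGeometry.Morphisms.Flat
import Mathlib.AlgebraicGeometry.Properties

/-!
# The base change of an integral scheme to a rational function field
-/

set_option linter.style.haveILetI false
set_option backward.isDefEq.respectTransparency false
set_option backward.isDefEq.respectTransparency.types false

universe u

open CategoryTheory CategoryTheory.Limits AlgebraicGeometry TopologicalSpace TensorProduct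

noncomputable section

namespace Groth.Agent.HodgeIdx

open Groth.Agent

variable (k : Type u) [Field k] (X : Scheme.{u}) [X.Over (Spec (CommRingCat.of k))]

/-- The base change to the rational function field. -/
abbrev XK : Scheme.{u} := Curv2.bc k X (RF k)

/-- The projection. -/
abbrev fstK : XK k X ⟶ X := Curv2.bcFst k X (RF k)

/-- The constants. -/
def cstK : RF k →+* Γ(XK k X, ⊤) :=
  ((Scheme.ΓSpecIso (CommRingCat.of (RF k))).inv ≫ (Curv2.bcSnd k X (RF k)).appTop).hom

/-- The constants of `X`. -/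
def cstX : k →+* Γ(X, ⊤) :=
  ((Scheme.ΓSpecIso (CommRingCat.of k)).inv ≫ (X ↘ Spec (CommRingCat.of k)).appTop).hom

/-- Sections over the preimage of an affine open. -/
theorem exists_equiv {W : X.Opens} (hW : IsAffineOpen W) :
    ∃ (_ : Algebra k Γ(X, W)) (e : Γ(X, W) ⊗[k] RF k ≃+* Γ(XK k X, fstK k X ⁻¹ᵁ W)),
      (∀ a, e (a ⊗ₜ[k] 1) = (fstK k X).app W a) ∧
        (∀ c, e (1 ⊗ₜ[k] c) = AModX.resR (le_top : fstK k X ⁻¹ᵁ W ≤ ⊤) (cstK k X c)) ∧
          algebraMap k Γ(X, W) = (AModX.resR (le_top : W ≤ ⊤)).comp (cstX k X) := by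
  let p := X ↘ Spec (CommRingCat.of k)
  let K := RF k
  let b := Spec.map (CommRingCat.ofHom (algebraMap k K))
  let g := fstK k X
  let q := Curv2.bcSnd k X K
  letI alg : Algebra k Γ(X, W) :=
    ((Scheme.ΓSpecIso (CommRingCat.of k)).inv ≫ p.appLE ⊤ W le_top).hom.toAlgebra
  have H : IsPullback g q p b := IsPullback.of_hasPullback p b
  have hUY : g ⁻¹ᵁ W = g ⁻¹ᵁ W ⊓ q ⁻¹ᵁ ⊤ := by simp
  have hiso := isIso_pushoutSection_of_isAffineOpen H (US := ⊤) (UT := ⊤) (UX := W) le_top le_top hUY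
    (isAffineOpen_top _) (isAffineOpen_top _) hW
  have h := (isIso_pushoutSection_iff H (US := ⊤) (UT := ⊤) (UX := W) le_top le_top hUY).1 hiso
  have h' : IsPushout (CommRingCat.ofHom (algebraMap k Γ(X, W))) (CommRingCat.ofHom (algebraMap k K))
      (g.appLE W (g ⁻¹ᵁ W) le_rfl)
      ((Scheme.ΓSpecIso (CommRingCat.of K)).inv ≫ q.appLE ⊤ (g ⁻¹ᵁ W) le_top) := by
    refine h.of_iso (Scheme.ΓSpecIso (CommRingCat.of k)) (Iso.refl _) (Scheme.ΓSpecIso (CommRingCat.of K))
      (Iso.refl _) ?_ ?_ ?_ ?_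
    · rw [Iso.refl_hom, Category.comp_id, RingHom.algebraMap_toAlgebra, CommRingCat.ofHom_hom,
        Iso.hom_inv_id_assoc]
    · rw [show b.appLE ⊤ ⊤ le_top = b.appTop from Scheme.Hom.appLE_eq_app b, Scheme.ΓSpecIso_naturality]
    · simp
    · rw [Iso.refl_hom, Category.comp_id, Iso.hom_inv_id_assoc]
  have ht := CommRingCat.isPushout_tensorProduct k Γ(X, W) K
  let e := ht.isoIsPushout _ _ h'
  refine ⟨alg, e.commRingCatIsoToRingEquiv, fun a => ?_, fun c => ?_, ?_⟩
  · refine (congrArg (fun f => f.hom a) (ht.inl_isoIsPushout_hom _ _ h')).trans ?_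
    rw [Scheme.Hom.appLE_eq_app]
  · refine (congrArg (fun f => f.hom c) (ht.inr_isoIsPushout_hom _ _ h')).trans ?_
    rw [Scheme.Hom.appLE, ← Category.assoc]
    rfl
  · refine RingHom.ext fun r => ?_
    show ((Scheme.ΓSpecIso (CommRingCat.of k)).inv ≫ p.appLE ⊤ W le_top).hom r = _
    rw [Scheme.Hom.appLE, ← Category.assoc]
    rfl

theorem surjective_fstK : Function.Surjective (fstK k X) := GeomField.surjective_bcFst (RF k)

instance isAffineHom_fstK : IsAffineHom (fstK k X) := MorphismProperty.pullback_fst _ _ inferInstance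

variable [IsIntegral X]

theorem irreducibleSpace_XK : IrreducibleSpace (XK k X) := by
  refine GeomField.irreducibleSpace_bc_of_fibre (RF k) ?_
  letI := Curv2.resAlgebra k X (genericPoint X)
  haveI := isDomain_tensor (k := k) (X.residueField (genericPoint X))
  infer_instance

theorem isReduced_XK : AlgebraicGeometry.IsReduced (XK k X) := by
  haveI : ∀ w, _root_.IsReduced ((XK k X).presheaf.stalk w) := fun w => by
    obtain ⟨_, ⟨W, hW, rfl⟩, hwW, -⟩ := X.isBasis_affineOpens.exists_subset_of_mem_open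
      (Set.mem_univ (fstK k X w)) isOpen_univ
    haveI : Nonempty W := ⟨⟨_, hwW⟩⟩
    obtain ⟨_, e, -, -, -⟩ := exists_equiv k X hW
    haveI := isDomain_tensor (k := k) Γ(X, W)
    haveI : IsDomain Γ(XK k X, fstK k X ⁻¹ᵁ W) := e.symm.toMulEquiv.isDomain
    letI := TopCat.Presheaf.algebra_section_stalk (XK k X).presheaf (U := fstK k X ⁻¹ᵁ W) ⟨w, hwW⟩
    haveI := (hW.preimage (fstK k X)).isLocalization_stalk ⟨w, hwW⟩
    haveI := IsLocalization.isDomain_of_le_nonZeroDivisors (R := Γ(XK k X, fstK k X ⁻¹ᵁ W))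
      (S := (XK k X).presheaf.stalk (⟨w, hwW⟩ : (fstK k X ⁻¹ᵁ W : (XK k X).Opens)).1) (Ideal.primeCompl_le_nonZeroDivisors
        ((hW.preimage (fstK k X)).primeIdealOf ⟨w, hwW⟩).asIdeal)
    exact inferInstanceAs (_root_.IsReduced ((XK k X).presheaf.stalk (⟨w, hwW⟩ : (fstK k X ⁻¹ᵁ W : (XK k X).Opens)).1))
  exact isReduced_of_isReduced_stalk _

theorem isIntegral_XK : IsIntegral (XK k X) := by
  haveI := irreducibleSpace_XK k X
  haveI := isReduced_XK k X
  exact isIntegral_of_irreducibleSpace_of_isReduced _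

omit [IsIntegral X] in
theorem dim_XK [IsProper (X ↘ Spec (CommRingCat.of k))] :
    topologicalKrullDim (XK k X) = topologicalKrullDim X := by
  haveI := FibDim.subsingleton_spec_field k
  haveI := FibDim.subsingleton_spec_field (RF k)
  haveI : Nonempty ↥(Spec (CommRingCat.of (RF k))) := ⟨IsLocalRing.closedPoint (RF k)⟩
  exact FibDim.topologicalKrullDim_baseChange (IsPullback.of_hasPullback _ _)

end Groth.Agent.HodgeIdx
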