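import Groth.Agent.HodgeIdx.Member
import Groth.Agent.H23.EquidimFibres
import Mathlib.RingTheory.Ideal.KrullsHeightTheorem

/-!
# The generic member as an integral hypersurface
-/

set_option linter.style.haveILetI false
set_option backward.isDefEq.respectTransparency false
set_option backward.isDefEq.respectTransparency.types false
set_option maxHeartbeats 800000

universe u

open CategoryTheory CategoryTheory.Limits AlgebraicGeometry TopologicalSpace

noncomputable section

namespace Groth.Agent.HodgeIdx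

open Groth.Agent

/-- Maximal points of the zero set of a section of an invertible module have codimension at most one. -/
theorem deg_genericPoint_le_succ {k : Type u} [Field k] {X : Scheme.{u}} [IsIntegral X]
    (p : X ⟶ Spec (CommRingCat.of k)) [IsProper p] {M : X.Modules} (hM : PicF.IsInvertible M)
    (s : Coh.structureModule X ⟶ M) {w : X} (hw : w ∉ CohB1.genLocus _ s)
    (hmax : ∀ v, v ∉ CohB1.genLocus _ s → v ⤳ w → v = w) :
    VarDim.deg p (genericPoint X) ≤ VarDim.deg p w + 1 := by
  obtain ⟨U, hU, e, he⟩ := InvX.exists_frame hM w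
  obtain ⟨_, ⟨W, hW, rfl⟩, hwW, hle⟩ :=
    X.isBasis_affineOpens.exists_subset_of_mem_open (show w ∈ U from hU) U.2
  obtain ⟨a, ha⟩ := (he.res (show W ≤ U from hle)).exists_coord le_rfl (AModX.res M (le_top : W ≤ ⊤) (InvX.one s))
  rw [AModX.res_self] at ha
  have hloc := InvX.genLocus_inf s (he.res (show W ≤ U from hle)) ha
  have hmem : ∀ q : PrimeSpectrum Γ(X, W), hW.fromSpec q ∈ CohB1.genLocus _ s ↔ a ∉ q.asIdeal := by
    intro q
    have hq : hW.fromSpec q ∈ W := VarDim.fromSpec_mem hW q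
    have h1 := SetLike.ext_iff.1 hloc (hW.fromSpec q)
    have h2 := SetLike.ext_iff.1 (hW.fromSpec_preimage_basicOpen a) q
    exact (and_iff_left hq).symm.trans (h1.trans h2)
  obtain ⟨q, rfl⟩ := VarDim.exists_fromSpec_eq hW hwW
  obtain ⟨_, hft⟩ := VarDim.exists_algebra p hW
  haveI : IsNoetherianRing Γ(X, W) := Algebra.FiniteType.isNoetherianRing k _
  have haq : a ∈ q.asIdeal := not_not.1 fun h => hw ((hmem q).2 h)
  have hmin : q.asIdeal ∈ (Ideal.span {a}).minimalPrimes := by
    refine ⟨⟨q.2, (Ideal.span_singleton_le_iff_mem _).2 haq⟩, fun J hJ hJq => ?_⟩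
    haveI := hJ.1
    let q' : PrimeSpectrum Γ(X, W) := ⟨J, hJ.1⟩
    have h := hmax (hW.fromSpec q') (fun h => (hmem q').1 h ((Ideal.span_singleton_le_iff_mem _).1 hJ.2))
      ((VarDim.fromSpec_specializes_iff hW q' q).2 hJq)
    exact (congrArg PrimeSpectrum.asIdeal (hW.fromSpec.isOpenEmbedding.injective h)).ge
  have hht := Ideal.height_le_one_of_isPrincipal_of_mem_minimalPrimes (Ideal.span {a}) q.asIdeal hmin
  obtain ⟨b, hb, -, hle'⟩ := VarDim.exists_deg_add_stalk p (hW.fromSpec q)
  rw [VarDim.ringKrullDim_stalk_fromSpec hW, ← PrimeSpectrum.height_eq_orderHeight] at hb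
  have hbb : q.asIdeal.height = (b : ℕ∞) := WithBot.coe_inj.1 hb
  rw [hbb] at hht
  have : b ≤ 1 := by exact_mod_cast hht
  have := hle' (genericPoint X) ((genericPoint_spec X).specializes (Set.mem_univ _))
  omega

/-- An irreducible closed subset as an integral closed subscheme. -/
theorem exists_integral_closure {X : Scheme.{u}} (z : X) :
    ∃ (Z : Scheme.{u}) (i : Z ⟶ X), IsClosedImmersion i ∧ IsIntegral Z ∧ Set.range i = closure {z} := by
  let T : Closeds X := ⟨closure {z}, isClosed_closure⟩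
  let i := (Scheme.IdealSheafData.vanishingIdeal T).subschemeι
  have hr : Set.range i = closure {z} := H23.RedSub.range_vanishingIdeal _
  haveI : IsReduced (Scheme.IdealSheafData.vanishingIdeal T).subscheme := H23.RedSub.isReduced_vanishingIdeal _
  haveI : IrreducibleSpace (Scheme.IdealSheafData.vanishingIdeal T).subscheme := by
    rw [irreducibleSpace_def, Set.top_eq_univ, ← GeomField.isIrreducible_image_iff i.isEmbedding.isInducing,
      Set.image_univ, hr]
    exact isIrreducible_singleton.closure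
  exact ⟨_, i, inferInstance, isIntegral_of_irreducibleSpace_of_isReduced _, hr⟩

variable (k : Type u) [Field k] {X : Scheme.{u}} [X.Over (Spec (CommRingCat.of k))]
  [IsProper (X ↘ Spec (CommRingCat.of k))]

instance isProper_bcSnd : IsProper (Curv2.bcSnd k X (RF k)) :=
  MorphismProperty.pullback_snd _ _ inferInstance

theorem deg_le_fstK (w : XK k X) :
    VarDim.deg (Curv2.bcSnd k X (RF k)) w ≤ VarDim.deg (X ↘ Spec (CommRingCat.of k)) (fstK k X w) := by
  haveI := FibDim.subsingleton_spec_field k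
  haveI := FibDim.subsingleton_spec_field (RF k)
  have h1 := (FibDim.topologicalKrullDim_closure (Curv2.bcSnd k X (RF k)) w).symm.trans
    (VarDim.topologicalKrullDim_closure_singleton (Curv2.bcSnd k X (RF k)) w)
  have h2 := (FibDim.topologicalKrullDim_closure (X ↘ Spec (CommRingCat.of k)) (fstK k X w)).symm.trans
    (VarDim.topologicalKrullDim_closure_singleton (X ↘ Spec (CommRingCat.of k)) (fstK k X w))
  have h1' := Nat.cast_inj.1 (WithBot.coe_inj.1 h1)
  have h2' := Nat.cast_inj.1 (WithBot.coe_inj.1 h2)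
  rw [← h1', ← h2']
  exact FibDim.rd_baseChange_le (IsPullback.of_hasPullback _ _) w

include k in
/-- A generic hypersurface section through a small closed subset. -/
theorem exists_hypersurface [IsIntegral X] {A : X.Modules} (hA : CohB1.IsAmple A) {r : ℕ}
    (hdim : topologicalKrullDim X = ((r + 2 : ℕ) : WithBot ℕ∞)) (T : Closeds X)
    (hT : topologicalKrullDim ↥(T : Set X) ≤ (r : WithBot ℕ∞)) :
    ∃ (n : ℕ) (_ : 0 < n)
      (σ : Coh.structureModule (XK k X) ⟶ (Scheme.Modules.pullback (fstK k X)).obj (CohB1.tensorPow A n))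
      (_ : Mono σ) (Z : Scheme.{u}) (i : Z ⟶ XK k X),
      IsClosedImmersion i ∧ IsIntegral Z ∧ topologicalKrullDim Z = ((r + 1 : ℕ) : WithBot ℕ∞) ∧
        fstK k X ⁻¹' T ⊆ Set.range i ∧ CohB1.support (cokernel σ) ⊆ Set.range i := by
  obtain ⟨n, hn, s, s', haff, hη, hT', hB, x, hx, hx'⟩ := exists_pencil k hA hdim T hT
  have hN : PicF.IsInvertible (CohB1.tensorPow A n) := InvX.isInvertible_tensorPow hA.1 n
  haveI := isIntegral_XK k X
  let p := X ↘ Spec (CommRingCat.of k)
  let q := Curv2.bcSnd k X (RF k)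
  let σ := member k s s'
  have hgN := PicClLib.isInvertible_pullback (fstK k X) hN
  have hgen : genericPoint (XK k X) ∈ CohB1.genLocus _ σ := by
    obtain ⟨w, hw⟩ := surjective_fstK k X x
    have := mem_genLocus_member k s s' hN (w := w) (hw ▸ hx) (hw ▸ hx')
    exact ((genericPoint_spec (XK k X)).mem_open_set_iff (CohB1.genLocus _ σ).2).2 ⟨w, trivial, this⟩
  have hσ0 : σ ≠ 0 := by
    intro h
    obtain ⟨W, hηW, hW⟩ := InvX.mem_genLocus hgen
    haveI : Nonempty W := ⟨⟨_, hηW⟩⟩
    have h1 : AModX.res _ (le_top : W ≤ ⊤) (InvX.one σ) = 0 := by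
      rw [h, AmpleX.one_zero, map_zero]
    rw [h1] at hW
    exact zero_ne_one (α := Γ(XK k X, W)) (hW.coord_unique le_rfl (r := 0) (r' := 1) (by simp [AModX.res_self]))
  haveI := InvEnd.mono_of_ne_zero InvX.isInvertible_structureModule hgN σ hσ0
  let V : Set (XK k X) := (CohB1.genLocus _ σ : Set (XK k X))ᶜ
  have hVc : IsClosed V := (CohB1.genLocus _ σ).isOpen.isClosed_compl
  have hdeg : VarDim.deg q (genericPoint (XK k X)) = r + 2 := by
    have h := VarDim.topologicalKrullDim_eq_deg_genericPoint q (X := XK k X)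
    rw [dim_XK k X, hdim] at h
    exact Nat.cast_inj.1 (WithBot.coe_inj.1 h.symm)
  have hub : ∀ w, VarDim.deg q w ≤ r + 2 := fun w => hdeg ▸
    VarDim.deg_le_of_specializes q ((genericPoint_spec (XK k X)).specializes (Set.mem_univ w))
  have hbase : ∀ w, fstK k X w ∉ CohB1.genLocus _ s → fstK k X w ∉ CohB1.genLocus _ s' →
      VarDim.deg q w ≤ r := fun w h h' =>
    (deg_le_fstK k w).trans (IntSym.deg_le_of_mem p
      ((CohB1.genLocus _ s).isOpen.union (CohB1.genLocus _ s').isOpen).isClosed_compl hB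
      (show fstK k X w ∈ ((CohB1.genLocus _ s : Set X) ∪ CohB1.genLocus _ s')ᶜ from fun hh => hh.elim h h'))
  obtain ⟨z, hz, hzgen⟩ := exists_generic_member k s s' hN hx hx' haff hη
  have htop : ∀ v ∈ V, ∃ w ∈ V, w ⤳ v ∧ (∀ u ∈ V, u ⤳ w → u = w) := by
    intro v hv
    let P : ℕ → Prop := fun d => ∃ w ∈ V, w ⤳ v ∧ VarDim.deg q w = d
    classical
    obtain ⟨w, hwV, hwv, hwd⟩ := Nat.findGreatest_spec (P := P) (hub v) ⟨v, hv, specializes_rfl, rfl⟩
    refine ⟨w, hwV, hwv, fun u hu huw => VarDim.eq_of_specializes_of_deg_le q huw ?_⟩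
    rw [hwd]
    exact Nat.le_findGreatest (hub u) ⟨u, hu, huw.trans hwv, rfl⟩
  have hcod : ∀ w ∈ V, (∀ u ∈ V, u ⤳ w → u = w) → r + 1 ≤ VarDim.deg q w ∧ z ⤳ w := fun w hw hmax => by
    have h : VarDim.deg q (genericPoint (XK k X)) ≤ VarDim.deg q w + 1 :=
      deg_genericPoint_le_succ q hgN σ hw fun u hu => hmax u hu
    refine ⟨by omega, ?_⟩
    by_cases h' : fstK k X w ∈ CohB1.genLocus _ s'
    · exact hzgen w hw h'
    · by_cases h'' : fstK k X w ∈ CohB1.genLocus _ s
      · exact absurd (mem_genLocus_member k s s' hN h'' h') hw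
      · have := hbase w h'' h'
        omega
  have hV : V = closure {z} := by
    refine Set.Subset.antisymm (fun v hv => ?_) (hVc.closure_subset_iff.2 (Set.singleton_subset_iff.2 hz))
    obtain ⟨w, hwV, hwv, hwmax⟩ := htop v hv
    exact ((hcod w hwV hwmax).2.trans hwv).mem_closure
  have hzdeg : VarDim.deg q z = r + 1 := by
    obtain ⟨w, hwV, hwz, hwmax⟩ := htop z hz
    obtain ⟨h1, h2⟩ := hcod w hwV hwmax
    have hwz' : w = z := (hwz.antisymm h2).eq
    have h3 : VarDim.deg q z ≠ r + 2 := fun h3 => by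
      have h4 := VarDim.eq_of_specializes_of_deg_le q
        ((genericPoint_spec (XK k X)).specializes (Set.mem_univ z)) (by omega)
      exact hz (h4 ▸ hgen)
    have := hub z
    subst hwz'
    omega
  obtain ⟨Z, i, hi, hZ, hr⟩ := exists_integral_closure z
  refine ⟨n, hn, σ, ‹_›, Z, i, hi, hZ, ?_, fun w hw => ?_, ?_⟩
  · haveI := hi
    rw [i.isEmbedding.toHomeomorph.isHomeomorph.topologicalKrullDim_eq, hr,
      VarDim.topologicalKrullDim_closure_singleton q, hzdeg]
    rfl
  · rw [hr, ← hV]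
    exact notMem_genLocus_member k s s' hN (hT' _ hw).1 (hT' _ hw).2
  · rw [hr, ← hV]
    exact (Snapper.support_subset_compl (VolLib.isoOn_genLocus σ)).2

end Groth.Agent.HodgeIdx
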