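import Groth.Agent.IntSym.Num
import Groth.Agent.JacBC.ThetaBC
import Groth.Agent.ExtShX.Divisor

/-!
# An additive function killing an integral subscheme and the smaller supports kills its supports
-/

set_option linter.style.haveILetI false
set_option linter.unusedSectionVars false
set_option backward.isDefEq.respectTransparency false
set_option backward.isDefEq.respectTransparency.types false

universe u

open CategoryTheory CategoryTheory.Limits AlgebraicGeometry TopologicalSpace

noncomputable section

namespace Groth.Agent.HodgeIdx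

open Groth.Agent

/-- Integral closed subschemes with the same underlying set have the same structure sheaf. -/
theorem nonempty_push_iso_of_range {X Z Z' : Scheme.{u}} (i : Z ⟶ X) [IsClosedImmersion i] [IsIntegral Z]
    (i' : Z' ⟶ X) [IsClosedImmersion i'] [IsIntegral Z'] (h : Set.range i = Set.range i') :
    Nonempty ((Coh.push i).obj (Coh.structureModule Z) ≅ (Coh.push i').obj (Coh.structureModule Z')) := by
  obtain ⟨e⟩ := ExtShX.nonempty_push_iso_quotMod i
  obtain ⟨e'⟩ := ExtShX.nonempty_push_iso_quotMod i'
  have hk : i.ker = i'.ker := by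
    rw [JacBC.ker_eq_vanishingIdeal, JacBC.ker_eq_vanishingIdeal]
    exact congrArg _ (Closeds.ext (congrArg closure h))
  rw [hk] at e
  exact ⟨e.symm ≪≫ e'⟩

theorem eq_zero_of_range {X Z : Scheme.{u}} [IsNoetherian X] {φ : X.Modules → ℤ} (hφ : HilbPoly.Additive φ)
    (i : Z ⟶ X) [IsClosedImmersion i] [IsIntegral Z]
    (hsmall : ∀ F : X.Modules, Coh.IsCoh F → CohB1.support F ⊆ Set.range i →
      i (genericPoint Z) ∉ CohB1.support F → φ F = 0)
    (hO : φ ((Coh.push i).obj (Coh.structureModule Z)) = 0) {F : X.Modules} (hF : Coh.IsCoh F)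
    (hsupp : CohB1.support F ⊆ Set.range i) : φ F = 0 := by
  refine QCoh.devissage (fun G => φ G = 0)
    (fun G G' e hG => (hφ.iso G G' e).symm.trans hG) (fun G hG => hφ.zero_of_isZero hG)
    (Set.range i) (fun S hS h₁ h₂ h₃ _ e₁ e₃ => by rw [hφ.add S hS h₁ h₂ h₃, e₁, e₃, add_zero])
    (fun ξ hξ _ Z' i' _ _ hr => ?_)
    (fun S hS h₁ h₂ h₃ _ e₂ e₃ => by
      have h' := hφ.add S hS h₁ h₂ h₃
      rw [e₂, e₃, add_zero] at h'
      exact h'.symm) hF hsupp
  by_cases hη : i (genericPoint Z) ∈ closure ({ξ} : Set X)
  · have hEq : closure ({ξ} : Set X) = Set.range i := by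
      refine Set.Subset.antisymm hξ ?_
      rintro _ ⟨z, rfl⟩
      exact ((genericPoint_specializes z).map i.continuous).mem_closed isClosed_closure hη
    obtain ⟨e⟩ := nonempty_push_iso_of_range i' i (hr.trans hEq)
    exact (hφ.iso _ _ ⟨e⟩).trans hO
  · exact hsmall _ (QCoh.isCoh_push_structure i')
      (((QCoh.support_push_subset i' QCoh.isQCoh_structureModule).trans hr.subset).trans hξ)
      fun h => hη (hr ▸ QCoh.support_push_subset i' QCoh.isQCoh_structureModule h)

end Groth.Agent.HodgeIdx
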