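import Groth.Agent.HodgeIdx.SurfIneq
import Groth.Agent.HodgeIdx.Blow
import Groth.Agent.HodgeIdx.Vanish
import Groth.Agent.IntSym.Cartier
import Groth.Agent.IntSym.PushDim
import Groth.Agent.IntSym.TwoCartier
import Groth.Agent.SurfRR.Divisor

/-!
# Numerical triviality on integral projective surfaces
-/

set_option linter.style.haveILetI false
set_option linter.unusedSectionVars false
set_option backward.isDefEq.respectTransparency false
set_option backward.isDefEq.respectTransparency.types false
set_option maxHeartbeats 1000000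

universe u

open CategoryTheory CategoryTheory.Limits AlgebraicGeometry TopologicalSpace
open Groth.Agent.H23.PicMul
open scoped Groth.Agent.H23.PicMul

noncomputable section

namespace Groth.Agent.HodgeIdx

open Groth.Agent Groth.Agent.IntSym Groth.Agent.SurfRR

variable (k : Type u) [Field k]

theorem index_pos {X : Scheme.{u}} [X.Over (Spec (CommRingCat.of k))] [IsProper (X ↘ Spec (CommRingCat.of k))]
    [IsIntegral X] (hdim : topologicalKrullDim X = ((2 : ℕ) : WithBot ℕ∞))
    {A H M : X.Modules} (hA : CohB1.IsAmple A) (hH : PicF.IsInvertible H) (hM : PicF.IsInvertible M)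
    (hpos : 0 < pair k H H) (horth : pair k H M = 0) : pair k M M ≤ 0 := by
  have hHA : pair k H A ≠ 0 := fun h => not_lt.2 (index_ample k hdim hA hH h) hpos
  obtain ⟨P, hP, h⟩ := exists_comb k hdim.le hM hH (pair k H A) (-pair k M A)
  have h0 : pair k P A = 0 := by rw [h A hA.1]; ring
  have h1 := index_ample k hdim hA hP h0
  rw [pair_comb_self k hM hH hP h, pair_comm k hM hH, horth] at h1
  have h2 : 0 < pair k H A ^ 2 := by positivity
  by_contra hlt
  push Not at hlt
  have := mul_pos h2 hlt
  have h3 : 0 ≤ (-pair k M A) ^ 2 * pair k H H := mul_nonneg (sq_nonneg _) hpos.le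
  nlinarith

theorem pair_eq_zero {X : Scheme.{u}} [X.Over (Spec (CommRingCat.of k))] [IsProper (X ↘ Spec (CommRingCat.of k))]
    [IsIntegral X] (hdim : topologicalKrullDim X = ((2 : ℕ) : WithBot ℕ∞))
    {A H L : X.Modules} (hA : CohB1.IsAmple A) (hH : PicF.IsInvertible H) (hL : PicF.IsInvertible L)
    (hpos : 0 < pair k H H) (horth : pair k L H = 0) (hLL : pair k L L = 0) {N : X.Modules}
    (hN : PicF.IsInvertible N) : pair k L N = 0 := by
  obtain ⟨N', hN', h⟩ := exists_comb k hdim.le hN hH (pair k H H) (-pair k N H)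
  have hN'H : pair k N' H = 0 := by rw [h H hH]; ring
  have hLN' : pair k L N' = pair k H H * pair k L N := by
    rw [pair_comm k hL hN', h L hL, pair_comm k hN hL, pair_comm k hH hL, horth]; ring
  suffices pair k L N' = 0 from (mul_eq_zero.1 (hLN' ▸ this)).resolve_left hpos.ne'
  have key : ∀ t : ℤ, 2 * t * pair k L N' + pair k N' N' ≤ 0 := fun t => by
    obtain ⟨P, hP, hPN⟩ := exists_comb k hdim.le hL hN' t 1
    have h1 := index_pos k hdim hA hH hP hpos (by rw [pair_comm k hH hP, hPN H hH, horth, hN'H]; ring)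
    rw [pair_comb_self k hL hN' hP hPN, hLL] at h1
    linarith
  by_contra hne
  have h1 := key (pair k L N' * ((pair k N' N').natAbs + 1))
  have h2 : (1 : ℤ) ≤ pair k L N' * pair k L N' := mul_self_pos.2 hne
  have h3 := Int.le_natAbs (a := -pair k N' N')
  rw [Int.natAbs_neg] at h3
  have h4 : ((pair k N' N').natAbs + 1 : ℤ) * 1 ≤ ((pair k N' N').natAbs + 1 : ℤ) * (pair k L N' * pair k L N') :=
    mul_le_mul_of_nonneg_left h2 (by positivity)
  linarith

/-- A symbol of full length killing the structure sheaf of an integral scheme kills all coherent modules. -/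
theorem sym_eq_zero_of_integral {X : Scheme.{u}} [X.Over (Spec (CommRingCat.of k))]
    [IsProper (X ↘ Spec (CommRingCat.of k))] [IsIntegral X] {l : List X.Modules} (hl : Inv l)
    (hdim : topologicalKrullDim X = ((l.length : ℕ) : WithBot ℕ∞))
    (hO : sym k l (Coh.structureModule X) = 0) {F : X.Modules} (hF : Coh.IsCoh F) : sym k l F = 0 := by
  haveI := CurveCohLib.isNoetherian_of_proper (k := k) (X := X)
  refine eq_zero_of_range (additive_sym k hl) (𝟙 X) (fun G hG _ hη => ?_) ?_ hF (fun x _ => ⟨x, rfl⟩)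
  · refine sym_eq_zero k hl hG ?_
    have := H23.TopDim.dim_lt_of_ssubset (X := X) (by rw [hdim]; exact WithBot.coe_inj.not.2 (ENat.natCast_ne_top _))
      (QCoh.isClosed_support_of_isFT hG.1 hG.2) (fun h => hη (h ▸ Set.mem_univ _))
    rw [hdim] at this
    exact this
  · exact ((additive_sym k hl).iso _ _ ⟨(Scheme.Modules.pushforwardId X).app _⟩).trans hO

/-- **Numerical triviality on surfaces**: orthogonal to an ample class with non-negative square gives degree
zero on every curve. -/
theorem deg_eq_zero_surface {S : Scheme.{u}} [S.Over (Spec (CommRingCat.of k))]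
    [IsProper (S ↘ Spec (CommRingCat.of k))] [IsIntegral S] (hdim : topologicalKrullDim S = ((2 : ℕ) : WithBot ℕ∞))
    {H L : S.Modules} (hH : CohB1.IsAmple H) (hL : PicF.IsInvertible L)
    (horth : pair k L H = 0) (hLL0 : 0 ≤ pair k L L)
    (C : Scheme.{u}) (i : C ⟶ S) [IsClosedImmersion i] [IsIntegral C] (hC : topologicalKrullDim C = 1) :
    sym k [L] ((Coh.push i).obj (Coh.structureModule C)) = 0 := by
  haveI := CurveCohLib.isNoetherian_of_proper (k := k) (X := S)
  haveI : S.IsSeparated := AmpleVan.isSeparated_of_proper (A := k)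
  have hLL : pair k L L = 0 := le_antisymm (index_ample k hdim hH hL horth) hLL0
  have hOC : Coh.IsCoh ((Coh.push i).obj (Coh.structureModule C)) := QCoh.isCoh_push_structure i
  have hC1 : topologicalKrullDim ↥(Set.range i) = ((1 : ℕ) : WithBot ℕ∞) :=
    (dim_eq_of_range i rfl).symm.trans (hC.trans rfl)
  let T : Closeds S := ⟨Set.range i, i.isClosedEmbedding.isClosed_range⟩
  have hT : (T : Set S) ≠ Set.univ := fun h => by
    change Set.range i = Set.univ at h
    have h1 := hC1
    rw [h, IsHomeomorph.topologicalKrullDim_eq _ (Homeomorph.Set.univ S).isHomeomorph, hdim] at h1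
    exact absurd h1 (by decide)
  obtain ⟨S', π, E, A, hS'i, hπ, hπs, hS'd, hA, hE, hET⟩ := exists_blowUp_closed k hH T hT
  haveI := hS'i; haveI := hπ; haveI := hπs
  letI : S'.Over (Spec (CommRingCat.of k)) := ⟨π ≫ (S ↘ Spec (CommRingCat.of k))⟩
  haveI : IsProper (S' ↘ Spec (CommRingCat.of k)) :=
    show IsProper (π ≫ (S ↘ Spec (CommRingCat.of k))) from inferInstance
  haveI := CurveCohLib.isNoetherian_of_proper (k := k) (X := S')
  rw [hdim] at hS'd
  let H₁ := (Scheme.Modules.pullback π).obj H
  let L₁ := (Scheme.Modules.pullback π).obj L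
  have hH₁ : PicF.IsInvertible H₁ := PicClLib.isInvertible_pullback π hH.1
  have hL₁ : PicF.IsInvertible L₁ := PicClLib.isInvertible_pullback π hL
  let G := (Coh.push π).obj (Coh.structureModule S')
  have hO' : Coh.IsCoh (Coh.structureModule S') := QCoh.isCoh_structureModule'
  have hd' : topologicalKrullDim ↥(CohB1.support (Coh.structureModule S')) ≤ ((2 : ℕ) : WithBot ℕ∞) :=
    (topologicalKrullDim_subspace_le S' _).trans hS'd.le
  have push2 : ∀ a b : S.Modules, PicF.IsInvertible a → PicF.IsInvertible b →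
      pair k ((Scheme.Modules.pullback π).obj a) ((Scheme.Modules.pullback π).obj b) = sym k [a, b] G ∧
        Coh.IsCoh G := by
    intro a b ha hb
    have h := sym_pullback_push k π rfl ![a, b] (by intro j; fin_cases j <;> assumption) hO' hd'
    simp only [List.ofFn_succ, List.ofFn_zero, Matrix.cons_val_zero, Matrix.cons_val_succ] at h
    exact h
  have hG := (push2 L L hL hL).2
  have hηG : genericPoint S ∈ CohB1.support G := by
    intro hss
    obtain ⟨y, hy⟩ := π.surjective (genericPoint S)
    haveI : Subsingleton (G.presheaf.stalk (genericPoint S)) := hss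
    have h1 : G.presheaf.germ ⊤ (genericPoint S) trivial (show Γ(S', π ⁻¹ᵁ ⊤) from 1) =
        G.presheaf.germ ⊤ (genericPoint S) trivial 0 := Subsingleton.elim _ _
    obtain ⟨W, hW, i₁, i₂, hWeq⟩ := G.presheaf.germ_eq (U := ⊤) (V := ⊤) (genericPoint S) trivial trivial _ _ h1
    have h2 : (S'.presheaf.map (homOfLE (show π ⁻¹ᵁ W ≤ π ⁻¹ᵁ ⊤ from fun _ _ => trivial)).op) 1 =
        (S'.presheaf.map (homOfLE (show π ⁻¹ᵁ W ≤ π ⁻¹ᵁ ⊤ from fun _ _ => trivial)).op) 0 := hWeq
    rw [map_one, map_zero] at h2
    haveI : Nonempty (π ⁻¹ᵁ W) := ⟨⟨y, show π y ∈ W by rw [hy]; exact hW⟩⟩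
    exact one_ne_zero h2
  have hGd : topologicalKrullDim ↥(CohB1.support G) = ((2 : ℕ) : WithBot ℕ∞) := by
    have : CohB1.support G = Set.univ := Set.eq_univ_of_forall fun x =>
      ((genericPoint_spec S).specializes (Set.mem_univ x)).mem_closed (QCoh.isClosed_support_of_isFT hG.1 hG.2) hηG
    rw [this]
    exact (IsHomeomorph.topologicalKrullDim_eq _ (Homeomorph.Set.univ S).isHomeomorph).trans hdim
  have hpos : 0 < pair k H₁ H₁ := by
    rw [(push2 H H hH.1 hH.1).1]
    have h := (HilbPoly.mult_nonneg_and_pos k hH 2 G hG hGd.le).2 hGd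
    exact h
  have hz : ∀ a : S.Modules, PicF.IsInvertible a → pair k L a = 0 →
      pair k L₁ ((Scheme.Modules.pullback π).obj a) = 0 := fun a ha h => by
    rw [(push2 L a hL ha).1]
    exact sym_eq_zero_of_integral k (List.forall_mem_cons.2 ⟨hL, List.forall_mem_singleton.2 ha⟩) hdim h hG
  have hI := (S8914.result E).2 hE
  have h0 := pair_eq_zero k hS'd hA hH₁ hL₁ hpos (hz H hH.1 horth) (hz L hL hLL) hI
  -- the restriction to the divisor
  have hQ : Coh.IsCoh (ClSub.quotMod E) := QCoh.isCoh_push_structure E.subschemeι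
  let F := CohB1.tensorMod (Coh.structureModule S') (ClSub.quotMod E)
  have hFe : F ≅ ClSub.quotMod E := (CurveSurface.nonempty_unit_tensor (ClSub.quotMod E)).some
  have hF : Coh.IsCoh F := AmpleVan.isCoh_tensor hO' hQ
  have hFs : CohB1.support F = (E.support : Set S') := by
    rw [QCoh.support_iso hFe hF.1]
    exact SurfRR.support_quotMod E
  have hass : ∀ x ∈ E.support, ¬ Curv2.IsAssPoint (Coh.structureModule S') x :=
    fun x hx => TwoCartier.not_assPoint_structure hE hx
  have h1 := sym_cartier k hE hO' hass (l := [L₁]) (List.forall_mem_singleton.2 hL₁)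
  change pair k (ClSub.idealMod E) L₁ = - sym k [L₁] F at h1
  rw [pair_comm k hI hL₁, h0] at h1
  have hFd : topologicalKrullDim ↥(CohB1.support F) ≤ ((1 : ℕ) : WithBot ℕ∞) := by
    refine HilbPoly.le_of_lt_succ ?_
    rw [hFs]
    refine lt_of_lt_of_le (H23.TopDim.dim_lt_of_ssubset (X := S')
      (by rw [hS'd]; exact WithBot.coe_inj.not.2 (ENat.natCast_ne_top _)) E.support.isClosed ?_) hS'd.le
    intro h
    exact BlowUpX.notMem_support_of_generic hE (genericPoint S')
      (fun z hz => (hz.antisymm ((genericPoint_spec S').specializes (Set.mem_univ z))).eq)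
      (show genericPoint S' ∈ (E.support : Set S') from h ▸ Set.mem_univ _)
  obtain ⟨hp, hP⟩ := sym_pullback_push k π rfl ![L] (by intro j; fin_cases j; assumption) hF hFd
  simp only [List.ofFn_succ, List.ofFn_zero, Matrix.cons_val_zero] at hp
  change sym k [L₁] F = sym k [L] ((Coh.push π).obj F) at hp
  set P := (Coh.push π).obj F
  have hPs : CohB1.support P ⊆ Set.range i := by
    intro x hx
    by_contra hxT
    refine hx (subsingleton_of_forall_eq 0 fun t => ?_)
    obtain ⟨W, hxW, s, rfl⟩ := P.presheaf.germ_exist t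
    let W' : S.Opens := W ⊓ ⟨(Set.range i)ᶜ, i.isClosedEmbedding.isClosed_range.isOpen_compl⟩
    have hs0 : P.presheaf.map (homOfLE (inf_le_left : W' ≤ W)).op s = 0 :=
      TopCat.Presheaf.section_ext ⟨F.presheaf, F.isSheaf⟩ _ _ _ fun z hz => by
        haveI : Subsingleton (F.presheaf.stalk z) := not_not.1 fun h => hz.2 (by
          have hzE : z ∈ (E.support : Set S') := hFs ▸ h
          have : π z ∈ π '' (E.support : Set S') := ⟨z, hzE, rfl⟩
          rw [hET] at this
          exact this)
        exact Subsingleton.elim _ _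
    rw [← P.presheaf.germ_res_apply (homOfLE (inf_le_left : W' ≤ W)) x ⟨hxW, hxT⟩ s, hs0, map_zero]
  have hPd : topologicalKrullDim ↥(CohB1.support P) ≤ ((1 : ℕ) : WithBot ℕ∞) :=
    (H23.TopDim.dim_le_dim_of_subset hPs).trans hC1.le
  have hHP : 0 < sym k [H] P := by
    refine (HilbPoly.mult_nonneg_and_pos k hH 1 P hP hPd).2 (le_antisymm hPd ?_)
    have hge : Set.range i ⊆ CohB1.support P := by
      have hη : i (genericPoint C) ∈ CohB1.support P := by
        intro hss
        obtain ⟨z, hzE, hz⟩ : i (genericPoint C) ∈ π '' (E.support : Set S') := by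
          rw [hET]; exact ⟨_, rfl⟩
        haveI : Subsingleton (P.presheaf.stalk (i (genericPoint C))) := hss
        let eP : (Coh.push π).obj F ≅ (Coh.push π).obj (ClSub.quotMod E) := (Coh.push π).mapIso hFe
        let one : Γ(S', π ⁻¹ᵁ ⊤) := 1
        let sQ : Γ((Coh.push π).obj (ClSub.quotMod E), ⊤) :=
          (show Γ(ClSub.quotMod E, π ⁻¹ᵁ ⊤) from (show Γ(E.subscheme, E.subschemeι ⁻¹ᵁ (π ⁻¹ᵁ ⊤)) from 1))
        let sF : Γ(P, ⊤) := eP.inv.app ⊤ sQ
        have h1 : P.presheaf.germ ⊤ (i (genericPoint C)) trivial sF =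
            P.presheaf.germ ⊤ (i (genericPoint C)) trivial 0 := Subsingleton.elim _ _
        obtain ⟨W, hW, i₁, i₂, hWeq⟩ := P.presheaf.germ_eq (U := ⊤) (V := ⊤) _ trivial trivial _ _ h1
        have h2 : ((Coh.push π).obj (ClSub.quotMod E)).presheaf.map i₁.op sQ = 0 := by
          apply (ConcreteCategory.bijective_of_isIso (eP.inv.app W)).1
          rw [map_zero]
          refine Eq.trans ?_ (hWeq.trans (map_zero _))
          exact (NatTrans.naturality_apply ((Scheme.Modules.toPresheaf S).map eP.inv) i₁.op sQ)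
        obtain ⟨e, he⟩ : z ∈ Set.range E.subschemeι := by
          rw [Scheme.IdealSheafData.range_subschemeι]; exact hzE
        haveI : Nonempty (E.subschemeι ⁻¹ᵁ (π ⁻¹ᵁ W) : E.subscheme.Opens) :=
          ⟨⟨e, show π (E.subschemeι e) ∈ W by rw [he, hz]; exact hW⟩⟩
        change (E.subscheme.presheaf.map _).hom (1 : Γ(E.subscheme, E.subschemeι ⁻¹ᵁ (π ⁻¹ᵁ ⊤))) = 0 at h2
        rw [map_one] at h2
        exact one_ne_zero (α := Γ(E.subscheme, E.subschemeι ⁻¹ᵁ (π ⁻¹ᵁ W))) h2
      rintro _ ⟨c, rfl⟩
      exact ((genericPoint_specializes c).map i.continuous).mem_closed (QCoh.isClosed_support_of_isFT hP.1 hP.2) hη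
    exact hC1.symm.le.trans (H23.TopDim.dim_le_dim_of_subset hge)
  -- proportionality on the modules supported on the curve
  let c := sym k [H] ((Coh.push i).obj (Coh.structureModule C))
  let d := sym k [L] ((Coh.push i).obj (Coh.structureModule C))
  have haL := additive_sym k (List.forall_mem_singleton.2 hL)
  have haH := additive_sym k (List.forall_mem_singleton.2 hH.1)
  have hφ : HilbPoly.Additive fun M : S.Modules => c * sym k [L] M - d * sym k [H] M :=
    ⟨fun M N e => by rw [haL.iso M N e, haH.iso M N e], fun Sq hS a b e => by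
      rw [haL.add Sq hS a b e, haH.add Sq hS a b e]; ring⟩
  have hkey := eq_zero_of_range hφ i (fun M hM hMs hη => by
      have hlt : topologicalKrullDim ↥(CohB1.support M) < ((1 : ℕ) : WithBot ℕ∞) := by
        refine HilbPoly.dim_lt_closure (n := 1) (x := i (genericPoint C)) ?_
          (QCoh.isClosed_support_of_isFT hM.1 hM.2) ?_ hη
        · rw [← QCoh.range_eq_closure i]; exact hC1.le
        · rw [← QCoh.range_eq_closure i]; exact hMs
      rw [sym_eq_zero k (List.forall_mem_singleton.2 hL) hM hlt,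
        sym_eq_zero k (List.forall_mem_singleton.2 hH.1) hM hlt]
      ring) (by show c * d - d * c = 0; ring) hP hPs
  rw [← hp, show sym k [L₁] F = 0 by linarith, mul_zero, zero_sub, neg_eq_zero] at hkey
  exact (mul_eq_zero.1 hkey).resolve_right hHP.ne'

end Groth.Agent.HodgeIdx
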