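import Groth.Agent.HodgeIdx.SymExt
import Groth.Agent.HodgeIdx.MemberSub
import Groth.Agent.HodgeIdx.Surface
import Groth.Agent.HodgeIdx.Vanish

/-!
# Numerical triviality from two intersection numbers
-/

set_option linter.style.haveILetI false
set_option backward.isDefEq.respectTransparency false
set_option backward.isDefEq.respectTransparency.types false
set_option maxHeartbeats 800000

universe u

open CategoryTheory CategoryTheory.Limits AlgebraicGeometry TopologicalSpace
open Groth.Agent.H23.PicMul
open scoped Groth.Agent.H23.PicMul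

noncomputable section

namespace Groth.Agent.HodgeIdx

open Groth.Agent Groth.Agent.IntSym

/-- Orthogonality to the powers of an ample module and non-negative square give degree zero on curves. -/
theorem deg_eq_zero : ∀ (r : ℕ) (k : Type u) [Field k] (X : Scheme.{u}) [X.Over (Spec (CommRingCat.of k))]
    [IsProper (X ↘ Spec (CommRingCat.of k))] [IsIntegral X],
    topologicalKrullDim X = ((r + 2 : ℕ) : WithBot ℕ∞) →
    ∀ A L : X.Modules, CohB1.IsAmple A → PicF.IsInvertible L →
      sym k (L :: List.replicate (r + 1) A) (Coh.structureModule X) = 0 →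
      0 ≤ sym k (L :: L :: List.replicate r A) (Coh.structureModule X) →
      ∀ (C : Scheme.{u}) (i : C ⟶ X) [IsClosedImmersion i] [IsIntegral C], topologicalKrullDim C = 1 →
        sym k [L] ((Coh.push i).obj (Coh.structureModule C)) = 0 := by
  intro r
  induction r with
  | zero =>
    intro k _ X _ _ _ hdim A L hA hL horth hLL C i _ _ hC
    exact deg_eq_zero_surface k hdim hA hL horth hLL C i hC
  | succ r ih =>
    intro k _ X _ _ _ hdim A L hA hL horth hLL C i _ _ hC
    haveI := CurveCohLib.isNoetherian_of_proper (k := k) (X := X)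
    let g := fstK k X
    let T : Closeds X := ⟨Set.range i, i.isClosedEmbedding.isClosed_range⟩
    have hC1 : topologicalKrullDim ↥(Set.range i) = ((1 : ℕ) : WithBot ℕ∞) :=
      (dim_eq_of_range i rfl).symm.trans (hC.trans rfl)
    have hT1 : topologicalKrullDim ↥(T : Set X) ≤ ((r + 1 : ℕ) : WithBot ℕ∞) :=
      hC1.le.trans (by exact_mod_cast Nat.le_add_left 1 r)
    obtain ⟨n, hn, σ, hσ, Z, j, hj, hZ, hZd, hTZ, hQs⟩ := exists_hypersurface k hA hdim T hT1
    haveI := hj; haveI := hZ
    haveI := isIntegral_XK k X
    letI : (XK k X).Over (Spec (CommRingCat.of (RF k))) := ⟨Curv2.bcSnd k X (RF k)⟩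
    haveI : IsProper (XK k X ↘ Spec (CommRingCat.of (RF k))) := isProper_bcSnd k
    haveI := CurveCohLib.isNoetherian_of_proper (k := RF k) (X := XK k X)
    letI : Z.Over (Spec (CommRingCat.of (RF k))) := ⟨j ≫ (XK k X ↘ Spec (CommRingCat.of (RF k)))⟩
    haveI : IsProper (Z ↘ Spec (CommRingCat.of (RF k))) :=
      show IsProper (j ≫ (XK k X ↘ Spec (CommRingCat.of (RF k)))) from inferInstance
    haveI := CurveCohLib.isNoetherian_of_proper (k := RF k) (X := Z)
    let A' := (Scheme.Modules.pullback g).obj A
    let L' := (Scheme.Modules.pullback g).obj L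
    have hA' : CohB1.IsAmple A' := isAmple_pullback_affine g hA
    have hL' : PicF.IsInvertible L' := PicClLib.isInvertible_pullback g hL
    let Q := cokernel σ
    have hgN := PicClLib.isInvertible_pullback g (InvX.isInvertible_tensorPow hA.1 n)
    have hQ : Coh.IsCoh Q := QCoh.isCoh_cokernel (QCoh.isCoh_structureModule' (X := XK k X)).1
      (AmpleVan.isCoh_invertible hgN) σ
    have hO : Coh.IsCoh (Coh.structureModule X) := QCoh.isCoh_structureModule'
    obtain ⟨eO⟩ := PicClLib.nonempty_pullback_structureModule g
    let OZ := (Coh.push j).obj (Coh.structureModule Z)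
    -- the symbols against the cokernel
    have hQl : ∀ l : List X.Modules, Inv l → l.length = r + 2 →
        sym (RF k) (l.map (Scheme.Modules.pullback g).obj) Q = n * sym k (A :: l) (Coh.structureModule X) := by
      intro l hl hlen
      have h := sym_head_section (RF k) hgN σ (inv_map_pullback g hl)
      rw [← h, ← sym_iso (RF k) (List.forall_mem_cons.2 ⟨hgN, inv_map_pullback g hl⟩) eO]
      refine (sym_bc k (RF k) (CohB1.tensorPow A n :: l)
        (List.forall_mem_cons.2 ⟨InvX.isInvertible_tensorPow hA.1 n, hl⟩) _ hO.1).trans ?_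
      refine sym_tensorPow_head k hA.1 hl hO ?_ n
      rw [hlen]
      exact (BigMono.dim_support_structure.trans hdim).le
    let lA : List X.Modules := List.replicate (r + 2) A
    have hlA : Inv lA := fun M hM => List.eq_of_mem_replicate hM ▸ hA.1
    let hA0 := sym k (A :: lA) (Coh.structureModule X)
    have hApos : 0 < hA0 :=
      (HilbPoly.mult_nonneg_and_pos k hA (r + 3) _ hO (BigMono.dim_support_structure.trans hdim).le).2
        (BigMono.dim_support_structure.trans hdim)
    let lA' := lA.map (Scheme.Modules.pullback g).obj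
    have hlA' : Inv lA' := inv_map_pullback g hlA
    have hOZd : topologicalKrullDim ↥(CohB1.support OZ) ≤ ((r + 2 : ℕ) : WithBot ℕ∞) :=
      (H23.TopDim.dim_le_dim_of_subset (QCoh.support_push_subset j QCoh.isQCoh_structureModule)).trans
        ((dim_eq_of_range j rfl).symm.trans hZd).le
    let cZ := sym (RF k) lA' OZ
    have key : ∀ l : List X.Modules, Inv l → l.length = r + 2 →
        (n * sym k (A :: l) (Coh.structureModule X)) * cZ =
          sym (RF k) (l.map (Scheme.Modules.pullback g).obj) OZ * (n * hA0) := by
      intro l hl hlen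
      have a1 := additive_sym (RF k) (inv_map_pullback g hl)
      have a2 := additive_sym (RF k) hlA'
      let c := sym (RF k) (l.map (Scheme.Modules.pullback g).obj) OZ
      have hφ : HilbPoly.Additive fun M : (XK k X).Modules =>
          sym (RF k) (l.map (Scheme.Modules.pullback g).obj) M * cZ - c * sym (RF k) lA' M :=
        ⟨fun M N e => by rw [a1.iso M N e, a2.iso M N e], fun S hS a b e => by
          rw [a1.add S hS a b e, a2.add S hS a b e]; ring⟩
      have h0 := eq_zero_of_range hφ j (fun M hM hMs hη => by
        have hlt : topologicalKrullDim ↥(CohB1.support M) < ((r + 2 : ℕ) : WithBot ℕ∞) := by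
          refine HilbPoly.dim_lt_closure (n := r + 2) (x := j (genericPoint Z)) ?_
            (QCoh.isClosed_support_of_isFT hM.1 hM.2) ?_ hη
          · rw [← QCoh.range_eq_closure j]; exact ((dim_eq_of_range j rfl).symm.trans hZd).le
          · rw [← QCoh.range_eq_closure j]; exact hMs
        rw [sym_eq_zero (RF k) (inv_map_pullback g hl) hM (by rwa [List.length_map, hlen]),
          sym_eq_zero (RF k) hlA' hM (by rwa [List.length_map, List.length_replicate])]
        ring) (by show c * cZ - c * cZ = 0; ring) hQ hQs
      rw [hQl l hl hlen, show lA' = lA.map _ from rfl, hQl lA hlA (List.length_replicate ..)] at h0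
      linarith
    have hcZ : 0 < cZ := by
      have h := HilbPoly.mult_nonneg_and_pos (RF k) hA' (r + 2) _ (QCoh.isCoh_push_structure j) hOZd
      rw [← sym_replicate, ← List.map_replicate] at h
      refine lt_of_le_of_ne h.1 fun h' => ?_
      -- the cokernel would then have symbol zero
      have hz : sym (RF k) lA' Q = 0 := by
        refine eq_zero_of_range (additive_sym (RF k) hlA') j (fun M hM hMs hη => ?_) h'.symm hQ hQs
        refine sym_eq_zero (RF k) hlA' hM ?_
        show topologicalKrullDim ↥(CohB1.support M) < _
        rw [List.length_map, List.length_replicate]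
        refine HilbPoly.dim_lt_closure (n := r + 2) (x := j (genericPoint Z)) ?_
          (QCoh.isClosed_support_of_isFT hM.1 hM.2) ?_ hη
        · rw [← QCoh.range_eq_closure j]; exact ((dim_eq_of_range j rfl).symm.trans hZd).le
        · rw [← QCoh.range_eq_closure j]; exact hMs
      rw [hQl lA hlA (List.length_replicate ..)] at hz
      have : (0 : ℤ) < n * hA0 := mul_pos (by exact_mod_cast hn) hApos
      exact this.ne' hz
    have hnA : (0 : ℤ) < n * hA0 := mul_pos (by exact_mod_cast hn) hApos
    -- the symbols on the member
    let AZ := (Scheme.Modules.pullback j).obj A'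
    let LZ := (Scheme.Modules.pullback j).obj L'
    have onZ : ∀ l : List X.Modules, Inv l → l.length = r + 2 →
        sym (RF k) ((l.map (Scheme.Modules.pullback g).obj).map (Scheme.Modules.pullback j).obj)
          (Coh.structureModule Z) = sym (RF k) (l.map (Scheme.Modules.pullback g).obj) OZ := fun l hl hlen =>
      sym_pullback_list (RF k) j rfl _ (inv_map_pullback g hl) QCoh.isCoh_structureModule'
        (by rw [List.length_map, hlen]; exact (BigMono.dim_support_structure.trans hZd).le)
    have hl1 : Inv (L :: List.replicate (r + 1) A) :=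
      List.forall_mem_cons.2 ⟨hL, fun M hM => List.eq_of_mem_replicate hM ▸ hA.1⟩
    have hl2 : Inv (L :: L :: List.replicate r A) :=
      List.forall_mem_cons.2 ⟨hL, List.forall_mem_cons.2 ⟨hL, fun M hM => List.eq_of_mem_replicate hM ▸ hA.1⟩⟩
    have horthZ : sym (RF k) (LZ :: List.replicate (r + 1) AZ) (Coh.structureModule Z) = 0 := by
      have h := key _ hl1 (by simp)
      rw [sym_perm k (List.Perm.swap L A _) (List.forall_mem_cons.2 ⟨hA.1, hl1⟩),
        show A :: List.replicate (r + 1) A = List.replicate (r + 2) A from rfl, horth, mul_zero, zero_mul] at h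
      have h2 := onZ _ hl1 (by simp)
      rw [(mul_eq_zero.1 h.symm).resolve_right hnA.ne'] at h2
      simpa using h2
    have hLLZ : 0 ≤ sym (RF k) (LZ :: LZ :: List.replicate r AZ) (Coh.structureModule Z) := by
      have h := key _ hl2 (by simp)
      have hperm : (A :: L :: L :: List.replicate r A).Perm (L :: L :: List.replicate (r + 1) A) :=
        (List.Perm.swap L A _).trans ((List.Perm.swap L A _).cons L)
      rw [sym_perm k hperm (List.forall_mem_cons.2 ⟨hA.1, hl2⟩)] at h
      have h2 := onZ _ hl2 (by simp)
      have h3 : 0 ≤ sym (RF k) ((L :: L :: List.replicate r A).map (Scheme.Modules.pullback g).obj) OZ := by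
        refine nonneg_of_mul_nonneg_left ?_ hnA
        rw [← h]
        exact mul_nonneg (mul_nonneg (Int.natCast_nonneg n) hLL) hcZ.le
      rw [← h2] at h3
      simpa using h3
    haveI : CompactSpace Z := inferInstance
    have hcur := ih (RF k) Z hZd AZ LZ
      (AmpleVan.isAmple_pullback_of_isEmbedding j j.isClosedEmbedding.isEmbedding hA')
      (PicClLib.isInvertible_pullback j hL') horthZ hLLZ
    -- devissage on the preimage of the curve
    let OC := (Coh.push i).obj (Coh.structureModule C)
    have hOC : Coh.IsCoh OC := QCoh.isCoh_push_structure i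
    have hsupp : CohB1.support ((Scheme.Modules.pullback g).obj OC) ⊆ g ⁻¹' Set.range i :=
      fun w hw => QCoh.support_push_subset i QCoh.isQCoh_structureModule
        ((QCoh.support_pullback g hOC.1 hOC.2).subset hw)
    have hl : Inv [L'] := List.forall_mem_singleton.2 hL'
    have hTc : IsClosed (g ⁻¹' Set.range i) := i.isClosedEmbedding.isClosed_range.preimage g.continuous
    have hTd : topologicalKrullDim ↥(g ⁻¹' Set.range i) ≤ ((1 : ℕ) : WithBot ℕ∞) :=
      dim_le_of_deg (Curv2.bcSnd k X (RF k)) hTc fun w hw =>
        (deg_le_fstK k w).trans (deg_le_of_mem (X ↘ Spec (CommRingCat.of k)) T.isClosed hC1.le hw)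
    have hzero : sym (RF k) [L'] ((Scheme.Modules.pullback g).obj OC) = 0 := by
      refine QCoh.devissage (fun G => sym (RF k) [L'] G = 0)
        (fun G G' e hG => ((additive_sym (RF k) hl).iso G G' e).symm.trans hG) (fun G hG => (additive_sym (RF k) hl).zero_of_isZero hG)
        (g ⁻¹' Set.range i)
        (fun S hS h₁ h₂ h₃ _ e₁ e₃ => by rw [(additive_sym (RF k) hl).add S hS h₁ h₂ h₃, e₁, e₃, add_zero])
        (fun ξ hξ _ W w _ _ hr => ?_)
        (fun S hS h₁ h₂ h₃ _ e₂ e₃ => by
          have h' := (additive_sym (RF k) hl).add S hS h₁ h₂ h₃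
          rw [e₂, e₃, add_zero] at h'
          exact h'.symm) ⟨QCoh.isQCoh_pullback _ hOC.1, QCoh.isFT_pullback _ hOC.1 hOC.2⟩ hsupp
      have hWs : Set.range w ⊆ Set.range j := (hr.subset.trans hξ).trans hTZ
      haveI := hZ
      obtain ⟨v, hv⟩ := H23.RedSub.exists_lift_closed w j hWs
      haveI : IsClosedImmersion v := by
        haveI : IsClosedImmersion (v ≫ j) := by rw [hv]; infer_instance
        exact IsClosedImmersion.of_comp v j
      have hWd : topologicalKrullDim W ≤ ((1 : ℕ) : WithBot ℕ∞) :=
        ((dim_eq_of_range w hr).le.trans (H23.TopDim.dim_le_dim_of_subset hξ)).trans hTd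
      rcases hWd.eq_or_lt with h1 | h1
      · have h2 := hcur W v (h1.trans rfl)
        have h3 := sym_pullback_list (RF k) j rfl [L'] hl (F := (Coh.push v).obj (Coh.structureModule W))
          (QCoh.isCoh_push_structure v)
          ((H23.TopDim.dim_le_dim_of_subset (QCoh.support_push_subset v QCoh.isQCoh_structureModule)).trans
            ((dim_eq_of_range v rfl).symm.trans h1).le)
        refine (sym_iso (RF k) hl ?_).trans (h3.symm.trans h2)
        exact (eqToIso (by rw [hv])) ≪≫
          ((Scheme.Modules.pushforwardComp v j).app (Coh.structureModule W)).symm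
      · refine sym_eq_zero (RF k) hl (QCoh.isCoh_push_structure w) ?_
        exact ((H23.TopDim.dim_le_dim_of_subset (QCoh.support_push_subset w QCoh.isQCoh_structureModule)).trans
          (dim_eq_of_range w rfl).symm.le).trans_lt h1
    exact (sym_bc k (RF k) [L] (List.forall_mem_singleton.2 hL) OC hOC.1).symm.trans hzero

end Groth.Agent.HodgeIdx
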