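import Groth.Agent.HodgeIdx.Higher
import Groth.Agent.AVDegPoly.Pullback

/-!
# Numerical triviality on irreducible proper schemes
-/

set_option linter.style.haveILetI false
set_option backward.isDefEq.respectTransparency false
set_option backward.isDefEq.respectTransparency.types false

universe u

open CategoryTheory CategoryTheory.Limits AlgebraicGeometry TopologicalSpace
open Groth.Agent.H23.PicMul
open scoped Groth.Agent.H23.PicMul

noncomputable section

namespace Groth.Agent.HodgeIdx

open Groth.Agent Groth.Agent.IntSym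

variable (k : Type u) [Field k] {X : Scheme.{u}} [X.Over (Spec (CommRingCat.of k))]
  [IsProper (X ↘ Spec (CommRingCat.of k))]

/-- An inverse in the head changes the sign. -/
theorem sym_neg_head {A A' : X.Modules} (hA : PicF.IsInvertible A) (hA' : PicF.IsInvertible A')
    (e : Nonempty (CohB1.tensorMod A A' ≅ Coh.structureModule X)) {l : List X.Modules} (hl : Inv l)
    {F : X.Modules} (hF : Coh.IsCoh F)
    (hd : topologicalKrullDim ↥(CohB1.support F) ≤ ((l.length + 1 : ℕ) : WithBot ℕ∞)) :
    sym k (A' :: l) F = - sym k (A :: l) F := by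
  have h := sym_tensor_head k hA hA' hl hF hd
  obtain ⟨e⟩ := e
  haveI := CurveCohLib.isNoetherian_of_proper (k := k) (X := X)
  have h0 : sym k (CohB1.tensorMod A A' :: l) F = sym k (Coh.structureModule X :: l) F := by
    rw [sym_cons, sym_cons]
    exact congrArg (· - _) (sym_iso k hl (((DCoh.tensorBi (X := X)).obj F).mapIso e))
  rw [h0, sym_structure_head k hl F] at h
  linarith

/-- Inverses in a tail of equal modules. -/
theorem sym_neg_replicate {A A' : X.Modules} (hA : PicF.IsInvertible A) (hA' : PicF.IsInvertible A')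
    (e : Nonempty (CohB1.tensorMod A A' ≅ Coh.structureModule X)) {F : X.Modules} (hF : Coh.IsCoh F) :
    ∀ (n : ℕ) (l : List X.Modules), Inv l →
      topologicalKrullDim ↥(CohB1.support F) ≤ ((l.length + n : ℕ) : WithBot ℕ∞) →
      sym k (l ++ List.replicate n A') F = (-1) ^ n * sym k (l ++ List.replicate n A) F
  | 0, l, _, _ => by simp
  | n + 1, l, hl, hd => by
    have hl' : ∀ B, PicF.IsInvertible B → Inv (l ++ List.replicate n B) := fun B hB M hM => by
      rcases List.mem_append.1 hM with h | h
      · exact hl M h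
      · exact List.eq_of_mem_replicate h ▸ hB
    have hperm : ∀ B : X.Modules, (l ++ List.replicate (n + 1) B).Perm (B :: (l ++ List.replicate n B)) :=
      fun B => by rw [List.replicate_succ]; exact List.perm_middle
    have hl'' : ∀ B, PicF.IsInvertible B → Inv (l ++ List.replicate (n + 1) B) := fun B hB M hM =>
      ((List.mem_cons).1 ((hperm B).subset hM)).elim (fun h => h ▸ hB) (hl' B hB M)
    rw [sym_perm k (hperm A') (hl'' A' hA'), sym_neg_head k hA hA' e (hl' A' hA') hF
        (by rw [List.length_append, List.length_replicate]; exact hd),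
      sym_perm k (hperm A) (hl'' A hA),
      show (A :: (l ++ List.replicate n A')) = (A :: l) ++ List.replicate n A' from rfl,
      sym_neg_replicate hA hA' e hF n (A :: l) (List.forall_mem_cons.2 ⟨hA, hl⟩)
        (by rw [List.length_cons, show l.length + 1 + n = l.length + (n + 1) by omega]; exact hd)]
    rw [List.cons_append, pow_succ]
    ring

/-- Numerical triviality on an irreducible scheme. -/
theorem isNumEquivZero_of_orth [IrreducibleSpace X] {s : ℕ}
    (hdim : topologicalKrullDim X = ((s + 2 : ℕ) : WithBot ℕ∞)) {H L : X.Modules} (hH : CohB1.IsAmple H)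
    (hL : PicF.IsInvertible L)
    (horth : sym k (L :: List.replicate (s + 1) H) (Coh.structureModule X) = 0)
    (hsq : 0 ≤ sym k (L :: L :: List.replicate s H) (Coh.structureModule X)) :
    Pic13.IsNumEquivZero k X L := by
  haveI := CurveCohLib.isNoetherian_of_proper (k := k) (X := X)
  obtain ⟨R, ι, hι, hR, hr⟩ := exists_integral_closure (genericPoint X)
  haveI := hι; haveI := hR
  have hu : Set.range ι = Set.univ := hr.trans (genericPoint_spec X)
  letI : R.Over (Spec (CommRingCat.of k)) := ⟨ι ≫ (X ↘ Spec (CommRingCat.of k))⟩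
  haveI : IsProper (R ↘ Spec (CommRingCat.of k)) :=
    show IsProper (ι ≫ (X ↘ Spec (CommRingCat.of k))) from inferInstance
  haveI := CurveCohLib.isNoetherian_of_proper (k := k) (X := R)
  have hRd : topologicalKrullDim R = ((s + 2 : ℕ) : WithBot ℕ∞) := by
    rw [dim_eq_of_range ι rfl, hu, IsHomeomorph.topologicalKrullDim_eq _ (Homeomorph.Set.univ X).isHomeomorph, hdim]
  have hO : Coh.IsCoh (Coh.structureModule X) := QCoh.isCoh_structureModule'
  have hOs : topologicalKrullDim ↥(CohB1.support (Coh.structureModule X)) = ((s + 2 : ℕ) : WithBot ℕ∞) :=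
    AVDegPoly.dim_support_structure hdim
  let lA : List X.Modules := List.replicate (s + 2) H
  have hlA : Inv lA := fun M hM => List.eq_of_mem_replicate hM ▸ hH.1
  have hX : 0 < sym k lA (Coh.structureModule X) :=
    (HilbPoly.mult_nonneg_and_pos k hH (s + 2) _ hO hOs.le).2 hOs
  let OR := (Coh.push ι).obj (Coh.structureModule R)
  have hOR : 0 ≤ sym k lA OR := (HilbPoly.mult_nonneg_and_pos k hH (s + 2) _ (QCoh.isCoh_push_structure ι)
    ((H23.TopDim.dim_le_dim_of_subset (QCoh.support_push_subset ι QCoh.isQCoh_structureModule)).trans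
      ((dim_eq_of_range ι rfl).symm.trans hRd).le)).1
  have hsmall : ∀ l : List X.Modules, Inv l → l.length = s + 2 → ∀ M : X.Modules, Coh.IsCoh M →
      ι (genericPoint R) ∉ CohB1.support M → sym k l M = 0 := fun l hl hlen M hM hη => by
    refine sym_eq_zero k hl hM ?_
    rw [hlen]
    show topologicalKrullDim ↥(CohB1.support M) < _
    rw [← hdim]
    refine H23.TopDim.dim_lt_of_ssubset (X := X) (by rw [hdim]; exact WithBot.coe_inj.not.2 (ENat.natCast_ne_top _))
      (QCoh.isClosed_support_of_isFT hM.1 hM.2) fun h => hη (h ▸ Set.mem_univ _)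
  have key : ∀ l : List X.Modules, Inv l → l.length = s + 2 →
      sym k l (Coh.structureModule X) * sym k lA OR = sym k l OR * sym k lA (Coh.structureModule X) := by
    intro l hl hlen
    have a1 := additive_sym k hl
    have a2 := additive_sym k hlA
    have hφ : HilbPoly.Additive fun M : X.Modules => sym k l M * sym k lA OR - sym k l OR * sym k lA M :=
      ⟨fun M N e => by rw [a1.iso M N e, a2.iso M N e], fun S hS a b e => by
        rw [a1.add S hS a b e, a2.add S hS a b e]; ring⟩
    have h := eq_zero_of_range hφ ι (fun M hM _ hη => by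
      rw [hsmall l hl hlen M hM hη, hsmall lA hlA (List.length_replicate ..) M hM hη]; ring)
      (by show sym k l OR * sym k lA OR - sym k l OR * sym k lA OR = 0; ring) hO (hu ▸ Set.subset_univ _)
    linarith
  have hOR0 : 0 < sym k lA OR := lt_of_le_of_ne hOR fun h => hX.ne' (by
    refine eq_zero_of_range (additive_sym k hlA) ι (fun M hM _ hη =>
      hsmall lA hlA (List.length_replicate ..) M hM hη) h.symm hO (hu ▸ Set.subset_univ _))
  have onR : ∀ l : List X.Modules, Inv l → l.length = s + 2 →
      sym k (l.map (Scheme.Modules.pullback ι).obj) (Coh.structureModule R) = sym k l OR := fun l hl hlen =>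
    sym_pullback_list k ι rfl l hl QCoh.isCoh_structureModule'
      (by rw [hlen]; exact (AVDegPoly.dim_support_structure hRd).le)
  have hl1 : Inv (L :: List.replicate (s + 1) H) :=
    List.forall_mem_cons.2 ⟨hL, fun M hM => List.eq_of_mem_replicate hM ▸ hH.1⟩
  have hl2 : Inv (L :: L :: List.replicate s H) :=
    List.forall_mem_cons.2 ⟨hL, List.forall_mem_cons.2 ⟨hL, fun M hM => List.eq_of_mem_replicate hM ▸ hH.1⟩⟩
  have h1 : sym k (L :: List.replicate (s + 1) H) OR = 0 := by
    have h := key _ hl1 (by simp)
    rw [horth, zero_mul] at h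
    exact (mul_eq_zero.1 h.symm).resolve_right hX.ne'
  have h2 : 0 ≤ sym k (L :: L :: List.replicate s H) OR := by
    have h := key _ hl2 (by simp)
    exact nonneg_of_mul_nonneg_left (h ▸ mul_nonneg hsq hOR0.le) hX
  have hcur := deg_eq_zero s k R hRd ((Scheme.Modules.pullback ι).obj H) ((Scheme.Modules.pullback ι).obj L)
    (AmpleVan.isAmple_pullback_of_isEmbedding ι ι.isClosedEmbedding.isEmbedding hH)
    (PicClLib.isInvertible_pullback ι hL)
    (by simpa using (onR _ hl1 (by simp)).trans h1)
    (by simpa using h2.trans_eq (onR _ hl2 (by simp)).symm)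
  intro Z i hi hZI hZ
  haveI := hi; haveI := hZI
  rw [curveDeg_eq k i hZ hL]
  obtain ⟨v, hv⟩ := H23.RedSub.exists_lift_closed i ι (hu ▸ Set.subset_univ _)
  haveI : IsClosedImmersion v := by
    haveI : IsClosedImmersion (v ≫ ι) := by rw [hv]; infer_instance
    exact IsClosedImmersion.of_comp v ι
  have h3 := sym_pullback_list k ι rfl [L] (List.forall_mem_singleton.2 hL)
    (F := (Coh.push v).obj (Coh.structureModule Z)) (QCoh.isCoh_push_structure v)
    ((H23.TopDim.dim_le_dim_of_subset (QCoh.support_push_subset v QCoh.isQCoh_structureModule)).trans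
      ((dim_eq_of_range v rfl).symm.trans hZ).le)
  refine (sym_iso k (List.forall_mem_singleton.2 hL) ?_).trans (h3.symm.trans (hcur Z v hZ))
  exact eqToIso (by rw [hv]) ≪≫ ((Scheme.Modules.pushforwardComp v ι).app (Coh.structureModule Z)).symm

end Groth.Agent.HodgeIdx
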