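import Groth.Agent.HodgeIdx.SurfIneq
import Groth.Agent.AmpleX.FiniteSet
import Groth.Agent.Lib.AmpleImmersion
import Groth.Agent.IntSym.PushDim

/-!
# A pencil with prescribed base points and small base locus
-/

set_option linter.style.haveILetI false
set_option linter.unusedSectionVars false
set_option backward.isDefEq.respectTransparency false
set_option backward.isDefEq.respectTransparency.types false
set_option maxHeartbeats 1000000

universe u

open CategoryTheory CategoryTheory.Limits AlgebraicGeometry TopologicalSpace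
open Groth.Agent.H23.PicMul
open scoped Groth.Agent.H23.PicMul

noncomputable section

namespace Groth.Agent.HodgeIdx

open Groth.Agent Groth.Agent.IntSym

variable (k : Type u) [Field k] {X : Scheme.{u}} [X.Over (Spec (CommRingCat.of k))]
  [IsProper (X ↘ Spec (CommRingCat.of k))]

/-- Multiplication by a monic section: the symbol with its module as head. -/
theorem sym_head_section [IsIntegral X] {N : X.Modules} (hN : PicF.IsInvertible N)
    (s : Coh.structureModule X ⟶ N) [Mono s] {l : List X.Modules} (hl : Inv l) :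
    sym k (N :: l) (Coh.structureModule X) = sym k l (cokernel s) := by
  haveI := CurveCohLib.isNoetherian_of_proper (k := k) (X := X)
  have hO : Coh.IsCoh (Coh.structureModule X) := QCoh.isCoh_structureModule'
  have hNc := AmpleVan.isCoh_invertible hN
  have hS : (ShortComplex.mk s (cokernel.π s) (cokernel.condition s)).ShortExact :=
    .mk' (ShortComplex.exact_of_g_is_cokernel _ (cokernelIsCokernel s)) ‹_› inferInstance
  have hadd := (additive_sym k hl).add _ hS hO hNc (QCoh.isCoh_cokernel hO.1 hNc s)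
  change sym k l N = sym k l (Coh.structureModule X) + sym k l (cokernel s) at hadd
  obtain ⟨e⟩ : Nonempty ((AmpleVan.tw N).obj (Coh.structureModule X) ≅ N) := CurveSurface.nonempty_unit_tensor N
  refine (sym_cons k N l _).trans ?_
  rw [sym_iso k hl e]
  linarith

include k in
/-- A nonzero section of a power of an ample module on an integral scheme vanishes in codimension one. -/
theorem le_dim_compl_genLocus [IsIntegral X] {A : X.Modules} (hA : CohB1.IsAmple A) {r : ℕ}
    (hdim : topologicalKrullDim X = ((r + 1 : ℕ) : WithBot ℕ∞)) {n : ℕ} (hn : 0 < n)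
    (s : Coh.structureModule X ⟶ CohB1.tensorPow A n) (hs : genericPoint X ∈ CohB1.genLocus _ s) :
    ((r : ℕ) : WithBot ℕ∞) ≤ topologicalKrullDim ↥((CohB1.genLocus _ s : Set X)ᶜ) := by
  haveI := CurveCohLib.isNoetherian_of_proper (k := k) (X := X)
  have hN := AmpleX.isAmple_tensorPow hA hn
  have hs0 : s ≠ 0 := by
    intro h
    obtain ⟨W, hηW, hW⟩ := InvX.mem_genLocus hs
    haveI : Nonempty W := ⟨⟨_, hηW⟩⟩
    have h1 : AModX.res (CohB1.tensorPow A n) (le_top : W ≤ ⊤) (InvX.one s) = 0 := by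
      rw [h, AmpleX.one_zero, map_zero]
    rw [h1] at hW
    exact zero_ne_one (α := Γ(X, W)) (hW.coord_unique le_rfl (r := 0) (r' := 1) (by simp [AModX.res_self]))
  haveI := InvEnd.mono_of_ne_zero InvX.isInvertible_structureModule hN.1 s hs0
  by_contra hlt
  push Not at hlt
  have hsub := (Snapper.support_subset_compl (VolLib.isoOn_genLocus s)).2
  have hQ := QCoh.isCoh_cokernel (QCoh.isCoh_structureModule' (X := X)).1 (AmpleVan.isCoh_invertible hN.1) s
  have hl : Inv (List.replicate r (CohB1.tensorPow A n)) := fun B hB => (List.eq_of_mem_replicate hB) ▸ hN.1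
  have h0 : sym k (CohB1.tensorPow A n :: List.replicate r (CohB1.tensorPow A n)) (Coh.structureModule X) = 0 := by
    rw [sym_head_section k hN.1 s hl]
    refine sym_eq_zero k hl hQ ?_
    rw [List.length_replicate]
    exact (H23.TopDim.dim_le_dim_of_subset hsub).trans_lt hlt
  have hpos := (HilbPoly.mult_nonneg_and_pos k hN (r + 1) _ QCoh.isCoh_structureModule'
    (BigMono.dim_support_structure.trans hdim).le).2 (BigMono.dim_support_structure.trans hdim)
  rw [← sym_replicate, List.replicate_succ, h0] at hpos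
  exact lt_irrefl _ hpos

include k in
/-- A pencil containing a given closed subset in its small base locus. -/
theorem exists_pencil [IsIntegral X] {A : X.Modules} (hA : CohB1.IsAmple A) {r : ℕ}
    (hdim : topologicalKrullDim X = ((r + 2 : ℕ) : WithBot ℕ∞)) (T : Closeds X)
    (hT : topologicalKrullDim ↥(T : Set X) ≤ (r : WithBot ℕ∞)) :
    ∃ (n : ℕ) (_ : 0 < n) (s s' : Coh.structureModule X ⟶ CohB1.tensorPow A n),
      IsAffineOpen (CohB1.genLocus _ s') ∧ genericPoint X ∈ CohB1.genLocus _ s' ∧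
        (∀ x ∈ T, x ∉ CohB1.genLocus _ s ∧ x ∉ CohB1.genLocus _ s') ∧
        topologicalKrullDim ↥(((CohB1.genLocus _ s : Set X) ∪ (CohB1.genLocus _ s' : Set X))ᶜ) ≤
          (r : WithBot ℕ∞) ∧
        ∃ x, x ∈ CohB1.genLocus _ s ∧ x ∉ CohB1.genLocus _ s' := by
  classical
  haveI := CurveCohLib.isNoetherian_of_proper (k := k) (X := X)
  haveI : X.IsSeparated := AmpleVan.isSeparated_of_proper (A := k)
  let p := X ↘ Spec (CommRingCat.of k)
  let U : X.Opens := ⟨(T : Set X)ᶜ, T.isClosed.isOpen_compl⟩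
  have hηT : genericPoint X ∉ T := fun h => by
    have huniv : (T : Set X) = Set.univ := Set.eq_univ_of_forall fun x =>
      ((genericPoint_spec X).specializes (Set.mem_univ x)).mem_closed T.isClosed h
    rw [huniv, IsHomeomorph.topologicalKrullDim_eq _ (Homeomorph.Set.univ X).isHomeomorph, hdim] at hT
    have : r + 2 ≤ r := by exact_mod_cast hT
    omega
  obtain ⟨a, s₁, hs₁, hs₁U, -⟩ := AmpleX.exists_finite_nhd hA (Set.finite_singleton (genericPoint X))
    (U := U) (Set.singleton_subset_iff.2 hηT)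
  let V : Set X := (CohB1.genLocus _ s₁ : Set X)ᶜ
  have hVc : IsClosed V := (CohB1.genLocus _ s₁).isOpen.isClosed_compl
  have hVd : topologicalKrullDim ↥V ≤ ((r + 1 : ℕ) : WithBot ℕ∞) := by
    refine HilbPoly.le_of_lt_succ (lt_of_lt_of_le (H23.TopDim.dim_lt_of_ssubset (X := X)
      (by rw [hdim]; exact WithBot.coe_inj.not.2 (ENat.natCast_ne_top _)) hVc ?_) hdim.le)
    exact fun h => (h ▸ Set.mem_univ (genericPoint X) : genericPoint X ∈ V) (hs₁ rfl)
  have hdeg : ∀ x ∈ V, VarDim.deg p x ≤ r + 1 := fun x hx => deg_le_of_mem p hVc hVd hx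
  let P : Set X := {x | x ∈ V ∧ VarDim.deg p x = r + 1}
  have hPfin : P.Finite := finite_top_degree p hVc hdeg
  have hPT : ∀ x ∈ P, x ∉ T := fun x hx hxT => by
    have := deg_le_of_mem p T.isClosed hT hxT
    have := hx.2
    omega
  obtain ⟨b, s₂, hs₂, hs₂U, -⟩ := AmpleX.exists_finite_nhd hA hPfin (U := U) hPT
  have hA' := hA.1
  let n := (a + 1) * (b + 1)
  obtain ⟨e₁⟩ : Nonempty (CohB1.tensorPow (CohB1.tensorPow A (a + 1)) (b + 1) ≅ CohB1.tensorPow A n) :=
    cl_eq_iff.1 (by rw [cl_tensorPow, cl_tensorPow, cl_tensorPow, ← pow_mul])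
  obtain ⟨e₂⟩ : Nonempty (CohB1.tensorPow (CohB1.tensorPow A (b + 1)) (a + 1) ≅ CohB1.tensorPow A n) :=
    cl_eq_iff.1 (by rw [cl_tensorPow, cl_tensorPow, cl_tensorPow, ← pow_mul, mul_comm (b + 1)])
  let s' := InvX.powHom s₁ (b + 1) ≫ e₁.hom
  let s := InvX.powHom s₂ (a + 1) ≫ e₂.hom
  have hg₁ : CohB1.genLocus _ s' = CohB1.genLocus _ s₁ := by
    rw [InvX.genLocus_comp_iso, InvX.genLocus_powHom (InvX.isInvertible_tensorPow hA' _)]
  have hg₂ : CohB1.genLocus _ s = CohB1.genLocus _ s₂ := by
    rw [InvX.genLocus_comp_iso, InvX.genLocus_powHom (InvX.isInvertible_tensorPow hA' _)]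
  have hn : 0 < n := Nat.mul_pos (Nat.succ_pos a) (Nat.succ_pos b)
  refine ⟨n, hn, s, s', ?_, hg₁ ▸ hs₁ rfl, fun x hx => ⟨fun h => hs₂U (hg₂ ▸ h) hx, fun h => hs₁U (hg₁ ▸ h) hx⟩,
    ?_, ?_⟩
  · exact AmpleEmbed.isAffineOpen_genLocus p (AmpleX.isAmple_tensorPow hA hn) s'
  · rw [hg₁, hg₂]
    refine dim_le_of_deg p ((CohB1.genLocus _ s₂).isOpen.union (CohB1.genLocus _ s₁).isOpen).isClosed_compl
      fun x hx => ?_
    have hxV : x ∈ V := fun h => hx (Or.inr h)
    by_contra hlt
    exact hx (Or.inl (hs₂ ⟨hxV, le_antisymm (hdeg x hxV) (by omega)⟩))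
  · obtain ⟨x, hx⟩ : P.Nonempty := by
      by_contra hne
      have h := le_dim_compl_genLocus k hA (r := r + 1) hdim (Nat.succ_pos a) s₁ (hs₁ rfl)
      have h' : topologicalKrullDim ↥V ≤ (r : WithBot ℕ∞) := dim_le_of_deg p hVc fun x hx => by
        have := hdeg x hx
        by_contra hlt
        exact hne ⟨x, hx, by omega⟩
      have : r + 1 ≤ r := by exact_mod_cast h.trans h'
      omega
    exact ⟨x, hg₂ ▸ hs₂ hx, fun h => hx.1 (hg₁ ▸ h)⟩

end Groth.Agent.HodgeIdx
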