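import Groth.Agent.HodgeIdx.GenChart
import Groth.Agent.HodgeIdx.Pencil
import Groth.Agent.InvX.GenLocusPull
import Groth.Agent.VarDim.Local

/-!
# The generic member of a pencil
-/

set_option linter.style.haveILetI false
set_option backward.isDefEq.respectTransparency false
set_option backward.isDefEq.respectTransparency.types false
set_option maxHeartbeats 800000

universe u

open CategoryTheory CategoryTheory.Limits AlgebraicGeometry TopologicalSpace TensorProduct

noncomputable section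

namespace Groth.Agent.HodgeIdx

open Groth.Agent

variable (k : Type u) [Field k] {X : Scheme.{u}} [X.Over (Spec (CommRingCat.of k))]

/-- The generic member of the pencil of two sections. -/
def member {N : X.Modules} (s s' : Coh.structureModule X ⟶ N) :
    Coh.structureModule (XK k X) ⟶ (Scheme.Modules.pullback (fstK k X)).obj N :=
  InvX.ofSect
    ((show Γ((Scheme.Modules.pullback (fstK k X)).obj N, ⊤) from InvX.pullElt (fstK k X) (U := ⊤) (InvX.one s)) -
      cstK k X (rfX k) •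
        (show Γ((Scheme.Modules.pullback (fstK k X)).obj N, ⊤) from InvX.pullElt (fstK k X) (U := ⊤) (InvX.one s')))

variable {N : X.Modules} (s s' : Coh.structureModule X ⟶ N)

/-- The member in a frame. -/
theorem genLocus_member_inf {U : X.Opens} {e : Γ(N, U)} (he : InvX.IsFrame e) {a a' : Γ(X, U)}
    (ha : AModX.res N (le_top : U ≤ ⊤) (InvX.one s) = a • e)
    (ha' : AModX.res N (le_top : U ≤ ⊤) (InvX.one s') = a' • e) :
    CohB1.genLocus _ (member k s s') ⊓ fstK k X ⁻¹ᵁ U =
      (XK k X).basicOpen ((fstK k X).app U a -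
        AModX.resR (le_top : fstK k X ⁻¹ᵁ U ≤ ⊤) (cstK k X (rfX k)) * (fstK k X).app U a') := by
  refine InvX.genLocus_inf _ (InvX.isFrame_pullElt _ he) ?_
  have h : ∀ (t : Coh.structureModule X ⟶ N) (b : Γ(X, U)), AModX.res N (le_top : U ≤ ⊤) (InvX.one t) = b • e →
      AModX.res ((Scheme.Modules.pullback (fstK k X)).obj N) (le_top : fstK k X ⁻¹ᵁ U ≤ ⊤)
        (show Γ((Scheme.Modules.pullback (fstK k X)).obj N, ⊤) from InvX.pullElt (fstK k X) (U := ⊤) (InvX.one t)) =
        (fstK k X).app U b • InvX.pullElt (fstK k X) e := fun t b hb => by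
    refine (InvX.res_pullElt (fstK k X) (le_top : U ≤ ⊤) (InvX.one t)).trans ?_
    rw [hb, InvX.pullElt_smul]
  rw [member, InvX.one_ofSect, map_sub, AModX.res_smul, h s a ha, h s' a' ha', sub_smul, mul_smul]

/-- Where one of the sections generates and the other does not, so does the member. -/
theorem mem_genLocus_member (hN : PicF.IsInvertible N) {w : XK k X}
    (h : fstK k X w ∈ CohB1.genLocus _ s) (h' : fstK k X w ∉ CohB1.genLocus _ s') :
    w ∈ CohB1.genLocus _ (member k s s') := by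
  obtain ⟨U, hU, e, he⟩ := InvX.exists_frame hN (fstK k X w)
  obtain ⟨a, ha⟩ := he.exists_coord le_rfl (AModX.res N (le_top : U ≤ ⊤) (InvX.one s))
  obtain ⟨a', ha'⟩ := he.exists_coord le_rfl (AModX.res N (le_top : U ≤ ⊤) (InvX.one s'))
  rw [AModX.res_self] at ha ha'
  have h1 : IsUnit ((XK k X).presheaf.germ _ w hU ((fstK k X).app U a)) := by
    rw [← Scheme.mem_basicOpen (x := w) (hx := hU), ← Scheme.preimage_basicOpen, ← InvX.genLocus_inf s he ha]
    exact ⟨h, hU⟩
  have h2 : ¬ IsUnit ((XK k X).presheaf.germ _ w hU ((fstK k X).app U a')) := by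
    rw [← Scheme.mem_basicOpen (x := w) (hx := hU), ← Scheme.preimage_basicOpen, ← InvX.genLocus_inf s' he ha']
    exact fun hm => h' hm.1
  have hmem : w ∈ CohB1.genLocus _ (member k s s') ⊓ fstK k X ⁻¹ᵁ U := by
    rw [genLocus_member_inf k s s' he ha ha', Scheme.mem_basicOpen (x := w) (hx := hU), map_sub, map_mul]
    by_contra hn
    exact (IsLocalRing.nonunits_add (mem_nonunits_iff.2 hn)
      (mul_mem_nonunits_right (mem_nonunits_iff.2 h2))) (by rwa [sub_add_cancel])
  exact hmem.1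

/-- The base locus lies in the member. -/
theorem notMem_genLocus_member (hN : PicF.IsInvertible N) {w : XK k X}
    (h : fstK k X w ∉ CohB1.genLocus _ s) (h' : fstK k X w ∉ CohB1.genLocus _ s') :
    w ∉ CohB1.genLocus _ (member k s s') := fun hw => by
  obtain ⟨U, hU, e, he⟩ := InvX.exists_frame hN (fstK k X w)
  obtain ⟨a, ha⟩ := he.exists_coord le_rfl (AModX.res N (le_top : U ≤ ⊤) (InvX.one s))
  obtain ⟨a', ha'⟩ := he.exists_coord le_rfl (AModX.res N (le_top : U ≤ ⊤) (InvX.one s'))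
  rw [AModX.res_self] at ha ha'
  have hnu : ∀ (t : Coh.structureModule X ⟶ N) (b : Γ(X, U)), AModX.res N (le_top : U ≤ ⊤) (InvX.one t) = b • e →
      fstK k X w ∉ CohB1.genLocus _ t →
      (XK k X).presheaf.germ _ w hU ((fstK k X).app U b) ∈ nonunits _ := fun t b hb ht => by
    rw [mem_nonunits_iff, ← Scheme.mem_basicOpen (x := w) (hx := hU), ← Scheme.preimage_basicOpen,
      ← InvX.genLocus_inf t he hb]
    exact fun hm => ht hm.1
  have hw' : w ∈ (XK k X).basicOpen _ := (genLocus_member_inf k s s' he ha ha').le ⟨hw, hU⟩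
  rw [Scheme.mem_basicOpen (x := w) (hx := hU), map_sub, map_mul, sub_eq_add_neg, neg_mul_eq_neg_mul] at hw'
  exact IsLocalRing.nonunits_add (hnu s a ha h) (mul_mem_nonunits_right (hnu s' a' ha' h')) hw'

variable [IsIntegral X]

/-- The ratio of two sections with a pole is transcendental. -/
theorem eq_zero_of_aeval_ratio (hN : PicF.IsInvertible N) {x : X} (hx : x ∈ CohB1.genLocus _ s)
    (hx' : x ∉ CohB1.genLocus _ s') {W : X.Opens} [Nonempty W]
    (hW : InvX.IsFrame (AModX.res N (le_top : W ≤ ⊤) (InvX.one s'))) (c : k →+* Γ(X, ⊤)) {f : Γ(X, W)}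
    (hf : AModX.res N (le_top : W ≤ ⊤) (InvX.one s) = f • AModX.res N (le_top : W ≤ ⊤) (InvX.one s'))
    {P : Polynomial k}
    (hP : P.eval₂ ((AModX.resR (le_top : W ≤ ⊤)).comp c) f = 0) : P = 0 := by
  by_contra hP0
  obtain ⟨U, hU, e, he⟩ := InvX.exists_frame hN x
  haveI : Nonempty U := ⟨⟨x, hU⟩⟩
  haveI : Nonempty (U ⊓ W : X.Opens) := by
    obtain ⟨⟨y, hy⟩⟩ := ‹Nonempty W›
    exact ⟨⟨genericPoint X, ((genericPoint_spec X).mem_open_set_iff U.2).2 ⟨x, trivial, hU⟩,
      ((genericPoint_spec X).mem_open_set_iff W.2).2 ⟨y, trivial, hy⟩⟩⟩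
  obtain ⟨a, ha⟩ := he.exists_coord le_rfl (AModX.res N (le_top : U ≤ ⊤) (InvX.one s))
  obtain ⟨b, hb⟩ := he.exists_coord le_rfl (AModX.res N (le_top : U ≤ ⊤) (InvX.one s'))
  rw [AModX.res_self] at ha hb
  let i : Γ(X, U) →+* Γ(X, U ⊓ W) := AModX.resR inf_le_left
  let j : Γ(X, W) →+* Γ(X, U ⊓ W) := AModX.resR inf_le_right
  have hab : i a = i b * j f := by
    refine he.coord_unique inf_le_left ?_
    have h1 := congrArg (AModX.res N (inf_le_left : U ⊓ W ≤ U)) ha
    have h2 := congrArg (AModX.res N (inf_le_left : U ⊓ W ≤ U)) hb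
    have h3 := congrArg (AModX.res N (inf_le_right : U ⊓ W ≤ W)) hf
    simp only [AModX.res_res, AModX.res_smul] at h1 h2 h3
    rw [← h1, mul_comm, mul_smul, ← h2, h3]
  let q := P.map ((AModX.resR (le_top : U ≤ ⊤)).comp c)
  have hinj : ∀ {R : Type u} [CommRing R] [Nontrivial R] (φ : k →+* R), φ P.leadingCoeff ≠ 0 :=
    fun φ => fun h => hP0 (Polynomial.leadingCoeff_eq_zero.1 (φ.injective (h.trans (map_zero φ).symm)))
  have hq : (q.scaleRoots b).eval a = 0 := by
    apply map_injective_of_isIntegral X (homOfLE (inf_le_left : U ⊓ W ≤ U))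
    change i _ = i 0
    rw [map_zero, ← Polynomial.eval₂_at_apply, ← Polynomial.eval_map, Polynomial.map_scaleRoots,
      hab, Polynomial.scaleRoots_eval_mul, Polynomial.map_map]
    · have : i.comp ((AModX.resR (le_top : U ≤ ⊤)).comp c) = j.comp ((AModX.resR (le_top : W ≤ ⊤)).comp c) :=
        RingHom.ext fun r => (AModX.resR_resR _ _ _).trans (AModX.resR_resR _ _ _).symm
      rw [this, ← Polynomial.map_map, Polynomial.eval_map, Polynomial.eval₂_at_apply, Polynomial.eval_map, hP,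
        map_zero, mul_zero]
    · rw [show q.leadingCoeff = _ from Polynomial.leadingCoeff_map_of_injective (RingHom.injective _) P]
      exact hinj (i.comp ((AModX.resR (le_top : U ≤ ⊤)).comp c))
  let ev : Γ(X, U) →+* X.residueField x := (X.evaluation U x hU).hom
  have hb0 : ev b = 0 := by
    refine (Scheme.evaluation_eq_zero_iff_notMem_basicOpen X x hU b).2 fun hm => hx' ?_
    exact ((InvX.genLocus_inf s' he hb).ge hm).1
  have ha0 : ev a ≠ 0 := by
    refine (Scheme.evaluation_ne_zero_iff_mem_basicOpen X x hU a).2 ?_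
    exact (InvX.genLocus_inf s he ha).le ⟨hx, hU⟩
  have h := congrArg ev hq
  rw [map_zero, ← Polynomial.eval₂_at_apply, ← Polynomial.eval_map, Polynomial.map_scaleRoots, hb0,
    Polynomial.scaleRoots_zero, Polynomial.map_map] at h
  · rw [Polynomial.eval_smul, Polynomial.eval_pow, Polynomial.eval_X, smul_eq_zero,
      Polynomial.leadingCoeff_map] at h
    rcases h with h | h
    · exact hinj _ h
    · exact ha0 (eq_zero_of_pow_eq_zero h)
  · rw [show q.leadingCoeff = _ from Polynomial.leadingCoeff_map_of_injective (RingHom.injective _) P]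
    exact hinj (ev.comp ((AModX.resR (le_top : U ≤ ⊤)).comp c))

/-- The member has a point generalizing all its points over the affine locus of `s'`. -/
theorem exists_generic_member (hN : PicF.IsInvertible N) {x : X} (hx : x ∈ CohB1.genLocus _ s)
    (hx' : x ∉ CohB1.genLocus _ s') (haff : IsAffineOpen (CohB1.genLocus _ s'))
    (hη : genericPoint X ∈ CohB1.genLocus _ s') :
    ∃ z, z ∉ CohB1.genLocus _ (member k s s') ∧
      ∀ w, w ∉ CohB1.genLocus _ (member k s s') → fstK k X w ∈ CohB1.genLocus _ s' → z ⤳ w := by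
  let W := CohB1.genLocus _ s'
  haveI : Nonempty W := ⟨⟨_, hη⟩⟩
  have hW : InvX.IsFrame (AModX.res N (le_top : W ≤ ⊤) (InvX.one s')) := by
    refine InvX.isFrame_of_germ fun y hy => ?_
    obtain ⟨U, hyU, hU⟩ := InvX.mem_genLocus hy
    have h := hU.germ_bijective hyU
    rw [InvX.germ_res' (le_top : U ≤ ⊤) hyU] at h
    rwa [InvX.germ_res' (le_top : W ≤ ⊤) hy]
  obtain ⟨f, hf⟩ := hW.exists_coord le_rfl (AModX.res N (le_top : W ≤ ⊤) (InvX.one s))
  rw [AModX.res_self] at hf
  obtain ⟨alg, e, he1, he2, halg⟩ := exists_equiv k X haff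
  let L := X.functionField
  let ι : Γ(X, W) →+* L := (X.germToFunctionField W).hom
  have hι : Function.Injective ι := germ_injective_of_isIntegral X (genericPoint X) hη
  letI : Algebra k L := (ι.comp (algebraMap k Γ(X, W))).toAlgebra
  let ιA : Γ(X, W) →ₐ[k] L := { ι with commutes' := fun _ => rfl }
  have hinj : Function.Injective (Polynomial.aeval (R := k) (ιA f)) := by
    rw [injective_iff_map_eq_zero]
    intro P hP
    rw [Polynomial.aeval_algHom_apply] at hP
    refine eq_zero_of_aeval_ratio k s s' hN hx hx' hW (cstX k X) hf ?_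
    rw [← halg, ← Polynomial.aeval_def]
    exact hι (hP.trans (map_zero ι).symm)
  let θ : RF k →ₐ[k] L := IsFractionRing.liftAlgHom hinj
  let φ := Algebra.TensorProduct.productMap ιA θ
  have hθ : φ (f ⊗ₜ[k] 1) = φ (1 ⊗ₜ[k] rfX k) := by
    rw [Algebra.TensorProduct.productMap_apply_tmul, Algebra.TensorProduct.productMap_apply_tmul, map_one θ,
      map_one ιA, mul_one, one_mul]
    simp [θ, rfX]
  let ψ : Γ(XK k X, fstK k X ⁻¹ᵁ W) →+* L := φ.toRingHom.comp e.symm.toRingHom
  haveI : (RingHom.ker ψ).IsPrime := RingHom.ker_isPrime ψ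
  let P : PrimeSpectrum Γ(XK k X, fstK k X ⁻¹ᵁ W) := ⟨RingHom.ker ψ, inferInstance⟩
  have hWK := haff.preimage (fstK k X)
  have hloc := genLocus_member_inf k s s' hW hf (one_smul _ _).symm
  have hel : e (f ⊗ₜ[k] 1 - 1 ⊗ₜ[k] rfX k) = (fstK k X).app W f -
      AModX.resR (le_top : fstK k X ⁻¹ᵁ W ≤ ⊤) (cstK k X (rfX k)) * (fstK k X).app W 1 := by
    rw [e.map_sub, he1, he2, map_one, mul_one]
  rw [← hel] at hloc
  have hP : ∀ Q : PrimeSpectrum Γ(XK k X, fstK k X ⁻¹ᵁ W),
      hWK.fromSpec Q ∈ CohB1.genLocus _ (member k s s') ↔ e (f ⊗ₜ[k] 1 - 1 ⊗ₜ[k] rfX k) ∉ Q.asIdeal := by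
    intro Q
    have hQ : hWK.fromSpec Q ∈ fstK k X ⁻¹ᵁ W := VarDim.fromSpec_mem hWK Q
    have h1 := SetLike.ext_iff.1 hloc (hWK.fromSpec Q)
    have h2 := SetLike.ext_iff.1 (hWK.fromSpec_preimage_basicOpen (e (f ⊗ₜ[k] 1 - 1 ⊗ₜ[k] rfX k))) Q
    exact (and_iff_left hQ).symm.trans (h1.trans h2)
  refine ⟨hWK.fromSpec P, fun h => (hP P).1 h ?_, fun w hw hwW => ?_⟩
  · show φ (e.symm (e (f ⊗ₜ[k] 1 - 1 ⊗ₜ[k] rfX k))) = 0
    rw [e.symm_apply_apply]
    exact (φ.map_sub _ _).trans (sub_eq_zero.2 hθ)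
  obtain ⟨Q, rfl⟩ := VarDim.exists_fromSpec_eq hWK (show w ∈ fstK k X ⁻¹ᵁ W from hwW)
  refine (VarDim.fromSpec_specializes_iff hWK P Q).2 fun y hy => ?_
  have hQmem : e (f ⊗ₜ[k] 1 - 1 ⊗ₜ[k] rfX k) ∈ Q.asIdeal := not_not.1 fun h => hw ((hP Q).2 h)
  have hφ : ∀ b, φ (b ⊗ₜ[k] (1 : RF k)) = ι b := fun b =>
    ((Algebra.TensorProduct.productMap_apply_tmul ιA θ b 1).trans (congrArg (ιA b * ·) θ.map_one)).trans (mul_one _)
  have hz := mem_span_of_map_eq_zero φ (fun a b hab => hι ((hφ a).symm.trans (hab.trans (hφ b)))) hθ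
    (show φ (e.symm y) = 0 from hy)
  obtain ⟨u, hu⟩ := Ideal.mem_span_singleton'.1 hz
  rw [← e.apply_symm_apply y, ← hu, e.map_mul]
  exact Q.asIdeal.mul_mem_left _ hQmem

end Groth.Agent.HodgeIdx
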