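import Groth.Agent.HodgeIdx.Irred
import Groth.Agent.DepthTwist.Connected

/-!
# Numerical triviality from the restriction to a hyperplane section
-/

set_option linter.style.haveILetI false
set_option backward.isDefEq.respectTransparency false
set_option backward.isDefEq.respectTransparency.types false
set_option maxHeartbeats 800000

universe u

open CategoryTheory CategoryTheory.Limits AlgebraicGeometry TopologicalSpace
open Groth.Agent.H23.PicMul
open scoped Groth.Agent.H23.PicMul

noncomputable section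

namespace Groth.Agent.HodgeIdx

open Groth.Agent Groth.Agent.IntSym

variable (k : Type u) [Field k] {X : Scheme.{u}} [X.Over (Spec (CommRingCat.of k))]
  [IsProper (X ↘ Spec (CommRingCat.of k))]

/-- A module of degree zero on the curves of a closed subset kills the symbols of modules supported there. -/
theorem sym_eq_zero_of_curves_on {L : X.Modules} (hL : PicF.IsInvertible L) (V : Set X)
    (hcur : ∀ (C : Scheme.{u}) (i : C ⟶ X) [IsClosedImmersion i] [IsIntegral C], topologicalKrullDim C = 1 →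
      Set.range i ⊆ V → sym k [L] ((Coh.push i).obj (Coh.structureModule C)) = 0)
    {l : List X.Modules} (hl : Inv l) {F : X.Modules} (hF : Coh.IsCoh F) (hsupp : CohB1.support F ⊆ V)
    (hd : topologicalKrullDim ↥(CohB1.support F) ≤ ((l.length + 1 : ℕ) : WithBot ℕ∞)) :
    sym k (L :: l) F = 0 := by
  haveI := CurveCohLib.isNoetherian_of_proper (k := k) (X := X)
  have hl' : Inv (L :: l) := List.forall_mem_cons.2 ⟨hL, hl⟩
  refine QCoh.devissage (fun G => sym k (L :: l) G = 0)
    (fun G G' e hG => ((additive_sym k hl').iso G G' e).symm.trans hG)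
    (fun G hG => (additive_sym k hl').zero_of_isZero hG)
    (CohB1.support F)
    (fun S hS h₁ h₂ h₃ _ e₁ e₃ => by rw [(additive_sym k hl').add S hS h₁ h₂ h₃, e₁, e₃, add_zero])
    (fun ξ hξ _ W w _ _ hr => ?_)
    (fun S hS h₁ h₂ h₃ _ e₂ e₃ => by
      have h' := (additive_sym k hl').add S hS h₁ h₂ h₃
      rw [e₂, e₃, add_zero] at h'
      exact h'.symm) hF subset_rfl
  letI : W.Over (Spec (CommRingCat.of k)) := ⟨w ≫ (X ↘ Spec (CommRingCat.of k))⟩
  haveI : IsProper (W ↘ Spec (CommRingCat.of k)) :=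
    show IsProper (w ≫ (X ↘ Spec (CommRingCat.of k))) from inferInstance
  haveI := CurveCohLib.isNoetherian_of_proper (k := k) (X := W)
  have hWd : topologicalKrullDim W ≤ ((l.length + 1 : ℕ) : WithBot ℕ∞) :=
    ((dim_eq_of_range w hr).le.trans (H23.TopDim.dim_le_dim_of_subset hξ)).trans hd
  have hsuppW : topologicalKrullDim ↥(CohB1.support (Coh.structureModule W)) ≤ ((l.length + 1 : ℕ) : WithBot ℕ∞) :=
    (topologicalKrullDim_subspace_le W _).trans hWd
  rw [← sym_pullback_list k w rfl (L :: l) hl' QCoh.isCoh_structureModule' (by rw [List.length_cons]; exact hsuppW),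
    List.map_cons]
  refine sym_eq_zero_of_curves k (PicClLib.isInvertible_pullback w hL) (fun Z i _ _ hZ => ?_) l.length _
    (List.length_map ..) (inv_map_pullback w hl) _ QCoh.isCoh_structureModule' hsuppW
  have h := sym_pullback_list k w rfl [L] (List.forall_mem_singleton.2 hL)
    (F := (Coh.push i).obj (Coh.structureModule Z)) (QCoh.isCoh_push_structure i)
    ((H23.TopDim.dim_le_dim_of_subset (QCoh.support_push_subset i QCoh.isQCoh_structureModule)).trans
      ((dim_eq_of_range i rfl).symm.trans hZ).le)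
  refine h.trans ((sym_iso k (List.forall_mem_singleton.2 hL)
    ((Scheme.Modules.pushforwardComp i w).app (Coh.structureModule Z))).trans (hcur Z (i ≫ w) hZ ?_))
  rintro _ ⟨z, rfl⟩
  exact hsupp (hξ (hr ▸ ⟨i z, rfl⟩))

/-- The restriction step on an integral scheme. -/
theorem isNumEquivZero_of_section [IsIntegral X] {H L : X.Modules} (hH : CohB1.IsAmple H) (hL : PicF.IsInvertible L)
    (φ : Coh.structureModule X ⟶ H) (hφ : genericPoint X ∈ CohB1.genLocus H φ)
    (hV : ((CohB1.genLocus H φ : Set X)ᶜ).Nonempty →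
      ((2 : ℕ) : WithBot ℕ∞) ≤ topologicalKrullDim ↥((CohB1.genLocus H φ : Set X)ᶜ))
    (hcur : ∀ (C : Scheme.{u}) (i : C ⟶ X) [IsClosedImmersion i] [IsIntegral C], topologicalKrullDim C = 1 →
      Set.range i ⊆ (CohB1.genLocus H φ : Set X)ᶜ → sym k [L] ((Coh.push i).obj (Coh.structureModule C)) = 0) :
    Pic13.IsNumEquivZero k X L := by
  haveI := CurveCohLib.isNoetherian_of_proper (k := k) (X := X)
  let p := X ↘ Spec (CommRingCat.of k)
  let r := VarDim.deg p (genericPoint X)
  have hdim : topologicalKrullDim X = (r : WithBot ℕ∞) := VarDim.topologicalKrullDim_eq_deg_genericPoint p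
  have hφ0 : φ ≠ 0 := by
    intro h
    obtain ⟨W, hηW, hW⟩ := InvX.mem_genLocus hφ
    haveI : Nonempty W := ⟨⟨_, hηW⟩⟩
    have h1 : AModX.res H (le_top : W ≤ ⊤) (InvX.one φ) = 0 := by rw [h, AmpleX.one_zero, map_zero]
    rw [h1] at hW
    exact zero_ne_one (α := Γ(X, W)) (hW.coord_unique le_rfl (r := 0) (r' := 1) (by simp [AModX.res_self]))
  haveI := InvEnd.mono_of_ne_zero InvX.isInvertible_structureModule hH.1 φ hφ0
  have hQ := QCoh.isCoh_cokernel (QCoh.isCoh_structureModule' (X := X)).1 (AmpleVan.isCoh_invertible hH.1) φ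
  have hQs := (Snapper.support_subset_compl (VolLib.isoOn_genLocus φ)).2
  have hVne : (CohB1.genLocus H φ : Set X)ᶜ ≠ Set.univ := fun h =>
    (h.ge (Set.mem_univ (genericPoint X)) : genericPoint X ∈ (CohB1.genLocus H φ : Set X)ᶜ) hφ
  have hVlt : topologicalKrullDim ↥((CohB1.genLocus H φ : Set X)ᶜ) < (r : WithBot ℕ∞) := hdim ▸
    H23.TopDim.dim_lt_of_ssubset (X := X) (by rw [hdim]; exact WithBot.coe_inj.not.2 (ENat.natCast_ne_top _))
      (CohB1.genLocus H φ).isOpen.isClosed_compl hVne
  intro Z i hi hZI hZ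
  haveI := hi; haveI := hZI
  have hZle : ((1 : ℕ) : WithBot ℕ∞) ≤ (r : WithBot ℕ∞) := by
    refine le_trans ?_ hdim.le
    rw [Nat.cast_one, ← hZ, dim_eq_of_range i rfl]
    exact topologicalKrullDim_subspace_le X _
  have hr1 : 1 ≤ r := by exact_mod_cast hZle
  have hne : ((CohB1.genLocus H φ : Set X)ᶜ).Nonempty := by
    by_contra h
    rw [Set.not_nonempty_iff_eq_empty] at h
    obtain ⟨r', hr'⟩ := Nat.exists_eq_add_of_le hr1
    rw [Nat.add_comm] at hr'
    have hl : Inv (List.replicate r' H) := fun M hM => List.eq_of_mem_replicate hM ▸ hH.1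
    have h0 := sym_head_section k hH.1 φ hl
    have hz : sym k (List.replicate r' H) (cokernel φ) = 0 := sym_eq_zero k hl hQ (by
      show topologicalKrullDim ↥(CohB1.support (cokernel φ)) < _
      have he : CohB1.support (cokernel φ) = (∅ : Set X) := Set.subset_empty_iff.1 (h ▸ hQs)
      rw [he]
      haveI : IsEmpty (IrreducibleCloseds ↥(∅ : Set X)) :=
        ⟨fun t => t.2.1.ne_empty (Set.eq_empty_of_isEmpty t.1)⟩
      rw [topologicalKrullDim, Order.krullDim_eq_bot_iff.2 ‹_›]
      exact WithBot.bot_lt_coe _)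
    have hpos := (HilbPoly.mult_nonneg_and_pos k hH r _ QCoh.isCoh_structureModule'
      (BigMono.dim_support_structure.trans hdim).le).2 (BigMono.dim_support_structure.trans hdim)
    rw [hr', ← sym_replicate, List.replicate_succ, h0, hz] at hpos
    exact lt_irrefl _ hpos
  have hr3 : 3 ≤ r := by
    have : ((2 : ℕ) : WithBot ℕ∞) < (r : WithBot ℕ∞) := (hV hne).trans_lt hVlt
    exact_mod_cast this
  obtain ⟨s, hs⟩ := Nat.exists_eq_add_of_le hr3
  have hdim' : topologicalKrullDim X = (((s + 1) + 2 : ℕ) : WithBot ℕ∞) := hdim.trans (by rw [hs, show 3 + s = s + 1 + 2 by omega])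
  have hQd : topologicalKrullDim ↥(CohB1.support (cokernel φ)) ≤ ((s + 2 : ℕ) : WithBot ℕ∞) :=
    HilbPoly.le_of_lt_succ (((H23.TopDim.dim_le_dim_of_subset hQs).trans_lt hVlt).trans_le
      (le_of_eq (by rw [hs, show 3 + s = s + 2 + 1 by omega])))
  have hrep : ∀ n, Inv (List.replicate n H) := fun n M hM => List.eq_of_mem_replicate hM ▸ hH.1
  refine isNumEquivZero_of_orth k hdim' hH hL ?_ ?_ Z i inferInstance hZ
  · have hp : (L :: List.replicate (s + 1 + 1) H).Perm (H :: L :: List.replicate (s + 1) H) := List.Perm.swap H L _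
    rw [sym_perm k hp (List.forall_mem_cons.2 ⟨hL, hrep _⟩),
      sym_head_section k hH.1 φ (List.forall_mem_cons.2 ⟨hL, hrep _⟩)]
    exact sym_eq_zero_of_curves_on k hL _ hcur (hrep _) hQ hQs (by rw [List.length_replicate]; exact hQd)
  · refine le_of_eq ?_
    have hp : (L :: L :: List.replicate (s + 1) H).Perm (H :: L :: L :: List.replicate s H) :=
      ((List.Perm.swap H L _).cons L).trans (List.Perm.swap H L _)
    rw [sym_perm k hp (List.forall_mem_cons.2 ⟨hL, List.forall_mem_cons.2 ⟨hL, hrep _⟩⟩),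
      sym_head_section k hH.1 φ (List.forall_mem_cons.2 ⟨hL, List.forall_mem_cons.2 ⟨hL, hrep _⟩⟩)]
    exact (sym_eq_zero_of_curves_on k hL _ hcur (List.forall_mem_cons.2 ⟨hL, hrep _⟩) hQ hQs
      (by rw [List.length_cons, List.length_replicate]; exact hQd)).symm

end Groth.Agent.HodgeIdx
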