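import Groth.Agent.NumBC.Basic
import Groth.Agent.IntSym.PushDim
import Groth.Agent.AmpleVan.Pull
import Groth.Agent.PicClLib.Basic

/-!
# Symbols under field extensions and finite-type pullbacks
-/

set_option linter.style.haveILetI false
set_option backward.isDefEq.respectTransparency false
set_option backward.isDefEq.respectTransparency.types false

universe u

open CategoryTheory CategoryTheory.Limits AlgebraicGeometry TopologicalSpace
open Groth.Agent.H23.PicMul
open scoped Groth.Agent.H23.PicMul

noncomputable section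

namespace Groth.Agent.HodgeIdx

open Groth.Agent Groth.Agent.IntSym

/-- An affine pullback of an ample module is ample. -/
theorem isAmple_pullback_affine {X Z : Scheme.{u}} (u : Z ⟶ X) [IsAffineHom u] [CompactSpace Z]
    {L : X.Modules} (h : CohB1.IsAmple L) : CohB1.IsAmple ((Scheme.Modules.pullback u).obj L) := by
  refine AmpleX.isAmple_iff.2 ⟨PicClLib.isInvertible_pullback u h.1, inferInstance, fun z => ?_⟩
  obtain ⟨m, hm, s, hz, hs⟩ := (AmpleX.isAmple_iff.1 h).2.2 (u z)
  obtain ⟨e⟩ := PicClLib.nonempty_pullback_structureModule u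
  have hg := InvX.genLocus_pullback u (InvX.isInvertible_tensorPow h.1 m) s e.symm
  obtain ⟨t, ht⟩ := AmpleX.exists_section_of_cl_eq
    (B := CohB1.tensorPow ((Scheme.Modules.pullback u).obj L) m)
    (by
      show PicF.pullCl u (PicF.cl (CohB1.tensorPow L m)) = _
      rw [cl_tensorPow, pullCl_pow, cl_tensorPow]
      rfl) (e.symm.hom ≫ (Scheme.Modules.pullback u).map s)
  rw [hg] at ht
  exact ⟨m, hm, t, ht.symm ▸ hz, ht.symm ▸ hs.preimage u⟩

theorem inv_map_pullback {X Y : Scheme.{u}} (f : Y ⟶ X) {l : List X.Modules} (hl : Inv l) :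
    Inv (l.map (Scheme.Modules.pullback f).obj) := fun M hM => by
  obtain ⟨N, hN, rfl⟩ := List.mem_map.1 hM
  exact PicClLib.isInvertible_pullback f (hl N hN)

variable (k : Type u) [Field k] (E : Type u) [Field E] [Algebra k E]

/-- Symbols do not change under a field extension. -/
theorem sym_bc {X : Scheme.{u}} [X.Over (Spec (CommRingCat.of k))] [IsProper (X ↘ Spec (CommRingCat.of k))]
    (l : List X.Modules) (hl : Inv l) (F : X.Modules) (hF : Coh.IsQCoh F) :
    @sym (Curv2.bc k X E) E _ ⟨Curv2.bcSnd k X E⟩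
        (l.map (Scheme.Modules.pullback (Curv2.bcFst k X E)).obj)
        ((Scheme.Modules.pullback (Curv2.bcFst k X E)).obj F) = sym k l F := by
  letI : (Curv2.bc k X E).Over (Spec (CommRingCat.of E)) := ⟨Curv2.bcSnd k X E⟩
  haveI : IsProper (Curv2.bc k X E ↘ Spec (CommRingCat.of E)) :=
    inferInstanceAs (IsProper (pullback.snd _ _))
  induction l generalizing F with
  | nil => exact NumBC.euler_ext k E F hF
  | cons A l ih =>
    have hA := hl A (List.mem_cons_self ..)
    have hl' : Inv l := fun M hM => hl M (List.mem_cons_of_mem _ hM)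
    rw [List.map_cons, sym_cons, sym_cons]
    obtain ⟨a⟩ := H23.PicMul.pull (Curv2.bcFst k X E) F A
    rw [← ih hl' F hF, ← ih hl' ((AmpleVan.tw A).obj F) (KFlatLib.isQCoh_tensor hF (ProjUPX.isQCoh_of_isInvertible hA))]
    exact congrArg₂ (· - ·) (sym_iso E (inv_map_pullback _ hl') a).symm rfl

omit [Algebra k E] in
/-- The projection formula for lists. -/
theorem sym_pullback_list {X Y : Scheme.{u}} [X.Over (Spec (CommRingCat.of k))]
    [IsProper (X ↘ Spec (CommRingCat.of k))] [Y.Over (Spec (CommRingCat.of k))]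
    [IsProper (Y ↘ Spec (CommRingCat.of k))] (f : Y ⟶ X)
    (hf : f ≫ (X ↘ Spec (CommRingCat.of k)) = Y ↘ Spec (CommRingCat.of k))
    (l : List X.Modules) (hl : Inv l) {F : Y.Modules} (hF : Coh.IsCoh F)
    (hd : topologicalKrullDim ↥(CohB1.support F) ≤ (l.length : WithBot ℕ∞)) :
    sym k (l.map (Scheme.Modules.pullback f).obj) F = sym k l ((Coh.push f).obj F) := by
  have h := (sym_pullback_push k f hf l.get (fun i => hl _ (List.get_mem l i)) hF hd).1
  rw [List.ofFn_get] at h
  rw [← h]
  congr 1
  conv_lhs => rw [← List.ofFn_get l, List.map_ofFn]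
  rfl

end Groth.Agent.HodgeIdx
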